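import Cfsg.Agent.Lib.Spor.McLRank3.Deg112X
import Cfsg.Agent.Lib.Spor.McLRank3.DataM
import Cfsg.Agent.Lib.Spor.PermOut.McL

/-!
The stabiliser of a point in the model of the McLaughlin group on 275 points.
-/

set_option autoImplicit false
set_option maxRecDepth 100000

open scoped Pointwise

namespace CfsgLib.Spor.McLRank3

open Equiv CfsgLib.Spor.PermOut

/-- a model of the McLaughlin group -/
def IsModel (M : Subgroup (Perm (Fin 275))) : Prop :=
  Nonempty (Cfsg.Spor.McL ≃* M) ∧ Nat.card M = 898128000 ∧ ∀ c ∈ McLData.gens, InM M c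

theorem exists_isModel : ∃ M, IsModel M := by
  haveI : IsSimpleGroup McLConfig.pairStab := ConwaySimple.isSimple_mcl
  obtain ⟨M, ⟨e⟩, hM⟩ := exists_model (K := McLConfig.pairStab) McLData.pts_length McLData.pts_ok
    McLData.pts_nodup McLConfig.ncard_275 (McLConfig.pairStab_fix 16 8) McLConfig.gens_pair
    McLData.gens (by decide +kernel) McLData.progs_ok McLData.moves_ok
  obtain ⟨e'⟩ := McLData.pairStab_equiv_mcl
  exact ⟨M, ⟨e'.symm.trans e⟩,
    (Nat.card_congr e.toEquiv).symm.trans ConwaySimple.natCard_mclStd, hM⟩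

/-- the point stabiliser -/
abbrev K : Subgroup (Perm (Fin 275)) := Subgroup.closure {permOf 275 kA, permOf 275 kB}

/-- all codes of the program in the model -/
def elM : List ℕ := mBase ++ rowsM.map Prod.fst

theorem mBase_ok : (Nat.beq mBase.length 13 && allN 275 (fun i => Nat.beq (getQ (mBase.getD 0 0) i) i) &&
    (List.range 6).all fun i => McLData.gens.contains (mBase.getD (2 * i + 1) 0) &&
      invOK 275 (mBase.getD (2 * i + 1) 0) (mBase.getD (2 * i + 2) 0)) = true := by decide +kernel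

theorem inM_mBase {M : Subgroup (Perm (Fin 275))} (hM : IsModel M) : ∀ a ∈ mBase, InM M a := by
  have h := mBase_ok
  simp only [Bool.and_eq_true, Nat.beq_eq, List.all_eq_true, List.mem_range] at h
  obtain ⟨⟨hlen, hone⟩, hgen⟩ := h
  intro a ha
  obtain ⟨j, hj, rfl⟩ := List.mem_iff_getElem.1 ha
  rw [← List.getD_eq_getElem _ 0 hj]
  rcases (show j = 0 ∨ ∃ i < 6, j = 2 * i + 1 ∨ j = 2 * i + 2 by
    by_cases h0 : j = 0
    · exact Or.inl h0
    · exact Or.inr ⟨(j - 1) / 2, by omega, by omega⟩) with rfl | ⟨i, hi, rfl | rfl⟩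
  · exact inM_one hone
  · exact hM.2.2 _ (List.contains_iff_mem.1 (hgen i hi).1)
  · exact inM_inv (hM.2.2 _ (List.contains_iff_mem.1 (hgen i hi).1)) (hgen i hi).2

theorem inM_elM {M : Subgroup (Perm (Fin 275))} (hM : IsModel M) : ∀ a ∈ elM, InM M a :=
  inM_rows (M := M) (d := mBase.getD 0 0) mBase rowsM
    (inM_one (by decide +kernel)) (inM_mBase hM) (by decide +kernel)

theorem inv_kA : invOK 275 kA kAi = true := by decide +kernel

theorem inv_kB : invOK 275 kB kBi = true := by decide +kernel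

theorem rep_kA : PermOut.Rep (permOf 275 kA) kA := by
  obtain ⟨σ, hσ, -⟩ := exists_rep inv_kA
  rwa [hσ.permOf_eq]

theorem rep_kB : PermOut.Rep (permOf 275 kB) kB := by
  obtain ⟨σ, hσ, -⟩ := exists_rep inv_kB
  rwa [hσ.permOf_eq]

theorem inM_kA : InM K kA := ⟨_, Subgroup.subset_closure (by simp), rep_kA⟩

theorem inM_kB : InM K kB := ⟨_, Subgroup.subset_closure (by simp), rep_kB⟩

/-- all codes of the program in the point stabiliser -/
def elK : List ℕ := [dId, kA, kAi, kB, kBi] ++ rowsK.map Prod.fst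

theorem inM_elK : ∀ a ∈ elK, InM K a := by
  refine inM_rows (M := K) (d := dId) [dId, kA, kAi, kB, kBi] rowsK (inM_one (by decide +kernel))
    (fun a ha => ?_) (by decide +kernel)
  simp only [List.mem_cons, List.not_mem_nil, or_false] at ha
  rcases ha with rfl | rfl | rfl | rfl | rfl
  · exact inM_one (by decide +kernel)
  · exact inM_kA
  · exact inM_inv inM_kA inv_kA
  · exact inM_kB
  · exact inM_inv inM_kB inv_kB

theorem K_fix_zero : K ≤ MulAction.stabilizer (Perm (Fin 275)) (0 : Fin 275) := by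
  have h : (Nat.beq (getQ kA 0) 0 && Nat.beq (getQ kB 0) 0) = true := by decide +kernel
  simp only [Bool.and_eq_true, Nat.beq_eq] at h
  rw [Subgroup.closure_le]
  rintro σ hσ
  simp only [Set.mem_insert_iff, Set.mem_singleton_iff] at hσ
  rcases hσ with rfl | rfl
  · exact Fin.ext ((rep_kA 0).trans h.1)
  · exact Fin.ext ((rep_kB 0).trans h.2)

theorem K_le_model {M : Subgroup (Perm (Fin 275))} (hM : IsModel M) : K ≤ M := by
  have h : (elM.contains kA && elM.contains kB) = true := by decide +kernel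
  simp only [Bool.and_eq_true, List.contains_iff_mem] at h
  rw [Subgroup.closure_le]
  rintro σ hσ
  simp only [Set.mem_insert_iff, Set.mem_singleton_iff] at hσ
  rcases hσ with rfl | rfl
  · exact (inM_elM hM kA h.1).mem
  · exact (inM_elM hM kB h.2).mem

theorem reachM_ok : (reachOK 275 McLData.gens (0, reachM) &&
    allN 275 fun i => (reachPts (0, reachM)).contains i) = true := by decide +kernel

theorem model_trans {M : Subgroup (Perm (Fin 275))} (hM : IsModel M) (i j : Fin 275) :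
    ∃ σ ∈ M, σ i = j := by
  have h := reachM_ok
  simp only [Bool.and_eq_true, allN_iff, List.contains_iff_mem] at h
  exact reach_spec hM.2.2 h.1 i j (h.2 i i.2) (h.2 j j.2)

theorem card_model_stab {M : Subgroup (Perm (Fin 275))} (hM : IsModel M) :
    Nat.card ↥(M ⊓ MulAction.stabilizer (Perm (Fin 275)) (0 : Fin 275)) = 3265920 := by
  have h := card_inf_stab M (0 : Fin 275)
  have ho : MulAction.orbit M (0 : Fin 275) = Set.univ := Set.eq_univ_of_forall fun j => by
    obtain ⟨σ, hσ, e⟩ := model_trans hM 0 j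
    exact ⟨⟨σ, hσ⟩, e⟩
  rw [ho, Set.ncard_univ, Nat.card_fin, hM.2.1] at h
  omega

/-- a point of the orbit of length 112 -/
def pt (i : Fin 112) : Fin 275 := Fin.ofNat 275 (Pl.getD i 0)

theorem Pl_ok : allN 112 (fun i => Nat.blt (Pl.getD i 0) 275 && Nat.beq (Pl.idxOf (Pl.getD i 0)) i) =
    true := by decide +kernel

theorem pt_val (i : Fin 112) : (pt i : ℕ) = Pl.getD i 0 := by
  have h := allN_iff.1 Pl_ok i i.2
  rw [Bool.and_eq_true] at h
  exact Nat.mod_eq_of_lt (Nat.le_of_ble_eq_true h.1)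

theorem pt_inj : Function.Injective pt := fun i j e => by
  have hi := allN_iff.1 Pl_ok i i.2
  have hj := allN_iff.1 Pl_ok j j.2
  simp only [Bool.and_eq_true, Nat.beq_eq, ← pt_val] at hi hj
  exact Fin.ext (by rw [← hi.2, e, hj.2])

/-- the action of `k` on the orbit of length 112 is `σ` -/
def Compat (k : Perm (Fin 275)) (σ : Perm (Fin 112)) : Prop := ∀ i, k (pt i) = pt (σ i)

theorem Compat.unique {k : Perm (Fin 275)} {σ τ : Perm (Fin 112)} (h : Compat k σ) (h' : Compat k τ) :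
    σ = τ := Equiv.ext fun i => pt_inj ((h i).symm.trans (h' i))

theorem Compat.mul {k l : Perm (Fin 275)} {σ τ : Perm (Fin 112)} (h : Compat k σ) (h' : Compat l τ) :
    Compat (k * l) (σ * τ) := fun i => by rw [Perm.mul_apply, h', h, Perm.mul_apply]

theorem Compat.inv {k : Perm (Fin 275)} {σ : Perm (Fin 112)} (h : Compat k σ) :
    Compat k⁻¹ σ⁻¹ := fun i => by
  obtain ⟨j, rfl⟩ := σ.surjective i
  rw [inv_app, ← h, inv_app]

theorem compat_one : Compat 1 1 := fun _ => rfl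

theorem compat_gens : Compat (permOf 275 kA) (permOf 112 cA) ∧
    Compat (permOf 275 kB) (permOf 112 cB) := by
  have h : allN 112 (fun i => Nat.beq (getQ kA (Pl.getD i 0)) (Pl.getD (getQ cA i) 0) &&
      Nat.beq (getQ kB (Pl.getD i 0)) (Pl.getD (getQ cB i) 0)) = true := by decide +kernel
  simp only [allN_iff, Bool.and_eq_true, Nat.beq_eq] at h
  exact ⟨fun i => Fin.ext (by rw [rep_kA, pt_val, pt_val, rep_cA]; exact (h i i.2).1),
    fun i => Fin.ext (by rw [rep_kB, pt_val, pt_val, rep_cB]; exact (h i i.2).2)⟩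

theorem exists_compat {k : Perm (Fin 275)} (hk : k ∈ K) : ∃ σ ∈ R, Compat k σ := by
  induction hk using Subgroup.closure_induction with
  | mem x hx =>
    simp only [Set.mem_insert_iff, Set.mem_singleton_iff] at hx
    rcases hx with rfl | rfl
    · exact ⟨_, inM_cA.mem, compat_gens.1⟩
    · exact ⟨_, inM_cB.mem, compat_gens.2⟩
  | one => exact ⟨1, R.one_mem, compat_one⟩
  | mul x y _ _ ex ey =>
    obtain ⟨σ, hσ, hx⟩ := ex
    obtain ⟨τ, hτ, hy⟩ := ey
    exact ⟨σ * τ, R.mul_mem hσ hτ, hx.mul hy⟩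
  | inv x _ ex =>
    obtain ⟨σ, hσ, hx⟩ := ex
    exact ⟨σ⁻¹, R.inv_mem hσ, hx.inv⟩

theorem exists_compat' {σ : Perm (Fin 112)} (hσ : σ ∈ R) : ∃ k ∈ K, Compat k σ := by
  induction hσ using Subgroup.closure_induction with
  | mem x hx =>
    simp only [Set.mem_insert_iff, Set.mem_singleton_iff] at hx
    rcases hx with rfl | rfl
    · exact ⟨_, inM_kA.mem, compat_gens.1⟩
    · exact ⟨_, inM_kB.mem, compat_gens.2⟩
  | one => exact ⟨1, K.one_mem, compat_one⟩
  | mul x y _ _ ex ey =>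
    obtain ⟨σ, hσ, hx⟩ := ex
    obtain ⟨τ, hτ, hy⟩ := ey
    exact ⟨σ * τ, K.mul_mem hσ hτ, hx.mul hy⟩
  | inv x _ ex =>
    obtain ⟨σ, hσ, hx⟩ := ex
    exact ⟨σ⁻¹, K.inv_mem hσ, hx.inv⟩

/-- the restriction to the orbit of length 112 -/
noncomputable def rHom : K →* R where
  toFun k := ⟨(exists_compat k.2).choose, (exists_compat k.2).choose_spec.1⟩
  map_one' := Subtype.ext ((exists_compat (1 : K).2).choose_spec.2.unique compat_one)
  map_mul' k l := Subtype.ext ((exists_compat (k * l).2).choose_spec.2.unique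
    ((exists_compat k.2).choose_spec.2.mul (exists_compat l.2).choose_spec.2))

theorem rHom_spec (k : K) : Compat k (rHom k) := (exists_compat k.2).choose_spec.2

theorem rHom_surjective : Function.Surjective rHom := fun σ => by
  obtain ⟨k, hk, hc⟩ := exists_compat' σ.2
  exact ⟨⟨k, hk⟩, Subtype.ext ((rHom_spec ⟨k, hk⟩).unique hc)⟩

theorem card_K_le : Nat.card K ≤ 3265920 := by
  obtain ⟨M, hM⟩ := exists_isModel
  rw [← card_model_stab hM]
  exact Nat.le_of_dvd Nat.card_pos (Subgroup.card_dvd_of_le (le_inf (K_le_model hM) K_fix_zero))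

theorem rHom_bijective : Function.Bijective rHom :=
  rHom_surjective.bijective_of_nat_card_le (by rw [natCard_R]; exact card_K_le)

/-- the point stabiliser is the group of degree 112 -/
noncomputable def eK : K ≃* R := MulEquiv.ofBijective rHom rHom_bijective

theorem eK_spec (k : K) : Compat k (eK k) := rHom_spec k

theorem natCard_K : Nat.card K = 3265920 := by
  rw [Nat.card_congr eK.toEquiv, natCard_R]

theorem model_stab {M : Subgroup (Perm (Fin 275))} (hM : IsModel M) :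
    M ⊓ MulAction.stabilizer (Perm (Fin 275)) (0 : Fin 275) = K :=
  (Subgroup.eq_of_le_of_card_ge (le_inf (K_le_model hM) K_fix_zero)
    (by rw [card_model_stab hM, natCard_K])).symm

/-- the orbit of length 112 -/
def Pset : Set (Fin 275) := Set.range pt

/-- the orbit of length 162 -/
def Qset : Set (Fin 275) := {x : Fin 275 | (x : ℕ) ∈ Ql}

theorem split_ok : allN 275 (fun x => (Nat.beq x 0 || Pl.contains x || Ql.contains x) &&
    (!Ql.contains x || (!Nat.beq x 0 && !Pl.contains x)) && (!Nat.beq x 0 || !Pl.contains x)) =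
      true := by decide +kernel

theorem mem_Pset {x : Fin 275} : x ∈ Pset ↔ (x : ℕ) ∈ Pl := by
  constructor
  · rintro ⟨i, rfl⟩
    rw [pt_val]
    have hlen : Pl.length = 112 := by decide +kernel
    rw [List.getD_eq_getElem _ _ (by omega)]
    exact List.getElem_mem _
  · intro hx
    obtain ⟨i, hi, e⟩ := List.mem_iff_getElem.1 hx
    have hlen : Pl.length = 112 := by decide +kernel
    exact ⟨⟨i, by omega⟩, Fin.ext (by rw [pt_val, List.getD_eq_getElem _ _ hi, e])⟩

theorem zero_notMem_Pset : (0 : Fin 275) ∉ Pset := fun h => by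
  have hs := allN_iff.1 split_ok 0 (by norm_num)
  simp only [Bool.and_eq_true, Bool.or_eq_true, Bool.not_eq_true'] at hs
  rcases hs.2 with h' | h'
  · exact absurd h' (by decide)
  · have hm := List.contains_iff_mem.2 (mem_Pset.1 h)
    simp only [Fin.val_zero] at hm
    rw [hm] at h'
    exact absurd h' (by decide)

theorem mem_Qset_iff {x : Fin 275} : x ∈ Qset ↔ x ≠ 0 ∧ x ∉ Pset := by
  have hs := allN_iff.1 split_ok x x.2
  simp only [Bool.and_eq_true, Bool.or_eq_true, Nat.beq_eq, List.contains_iff_mem,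
    Bool.not_eq_true', ← Bool.not_eq_true] at hs
  obtain ⟨⟨h1, h2⟩, -⟩ := hs
  show (x : ℕ) ∈ Ql ↔ _
  rw [mem_Pset]
  constructor
  · intro hx
    rcases h2 with h2 | h2
    · exact absurd hx h2
    · exact ⟨fun e => h2.1 (e ▸ rfl), h2.2⟩
  · rintro ⟨hx0, hxP⟩
    rcases h1 with (h1 | h1) | h1
    · exact absurd (Fin.ext h1) hx0
    · exact absurd h1 hxP
    · exact h1

theorem K_apply_zero {k : Perm (Fin 275)} (hk : k ∈ K) : k 0 = 0 := K_fix_zero hk

theorem K_Pset {k : Perm (Fin 275)} (hk : k ∈ K) {x : Fin 275} (hx : x ∈ Pset) : k x ∈ Pset := by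
  obtain ⟨σ, -, hc⟩ := exists_compat hk
  obtain ⟨i, rfl⟩ := hx
  exact ⟨σ i, (hc i).symm⟩

theorem K_Qset {k : Perm (Fin 275)} (hk : k ∈ K) {x : Fin 275} (hx : x ∈ Qset) : k x ∈ Qset := by
  rw [mem_Qset_iff] at hx ⊢
  refine ⟨fun e => hx.1 (k.injective (e.trans (K_apply_zero hk).symm)), fun h => hx.2 ?_⟩
  have := K_Pset (K.inv_mem hk) h
  rwa [inv_app] at this

/-- the point `p` -/
abbrev ptp : Fin 275 := pt 0

/-- the point `q` -/
abbrev ptq : Fin 275 := Fin.ofNat 275 ptQ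

theorem ptq_val : (ptq : ℕ) = ptQ := Nat.mod_eq_of_lt (by decide +kernel)

theorem ptq_mem : ptq ∈ Qset := by
  show (ptq : ℕ) ∈ Ql
  rw [ptq_val]
  exact List.contains_iff_mem.1 (by decide +kernel)

theorem reachPQ_ok : (reachOK 275 [kA, kB] (Pl.getD 0 0, reachP) &&
    reachOK 275 [kA, kB] (ptQ, reachQ) && Pl.all (reachPts (Pl.getD 0 0, reachP)).contains &&
    Ql.all (reachPts (ptQ, reachQ)).contains) = true := by decide +kernel

theorem inM_gensK : ∀ c ∈ [kA, kB], InM K c := fun c hc => by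
  simp only [List.mem_cons, List.not_mem_nil, or_false] at hc
  rcases hc with rfl | rfl
  · exact inM_kA
  · exact inM_kB

theorem K_trans_P {x y : Fin 275} (hx : x ∈ Pset) (hy : y ∈ Pset) : ∃ k ∈ K, k x = y := by
  have h := reachPQ_ok
  simp only [Bool.and_eq_true, List.all_eq_true, List.contains_iff_mem] at h
  exact reach_spec inM_gensK h.1.1.1 x y (h.1.2 _ (mem_Pset.1 hx)) (h.1.2 _ (mem_Pset.1 hy))

theorem K_trans_Q {x y : Fin 275} (hx : x ∈ Qset) (hy : y ∈ Qset) : ∃ k ∈ K, k x = y := by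
  have h := reachPQ_ok
  simp only [Bool.and_eq_true, List.all_eq_true, List.contains_iff_mem] at h
  exact reach_spec inM_gensK h.1.1.2 x y (h.2 _ hx) (h.2 _ hy)

/-- the neighbours in the first orbit of a point of the second -/
def hemiSet (x : Fin 275) : Finset (Fin 112) := mSet 112 (hemi.getD (Ql.idxOf (x : ℕ)) 0)

theorem hemi_ok : (Nat.beq Ql.length 162 && Nat.beq hemi.length 162 && allN 162 (fun i =>
    Nat.beq (Ql.idxOf (Ql.getD i 0)) i && Nat.blt (hemiA.getD i 0) 162 &&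
    Nat.blt (hemiB.getD i 0) 162 && Nat.beq (getQ kA (Ql.getD i 0)) (Ql.getD (hemiA.getD i 0) 0) &&
    Nat.beq (getQ kB (Ql.getD i 0)) (Ql.getD (hemiB.getD i 0) 0) &&
    imgOK 112 cA (hemi.getD i 0) (hemi.getD (hemiA.getD i 0) 0) &&
    imgOK 112 cB (hemi.getD i 0) (hemi.getD (hemiB.getD i 0) 0) &&
    Nat.blt (hemi.getD i 0) (2 ^ 112)) && decide hemi.Nodup &&
    Nat.beq (hemi.getD (Ql.idxOf ptQ) 0) sol1) = true := by decide +kernel

theorem hemiSet_ptq : hemiSet ptq = mSet 112 sol1 := by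
  have h := hemi_ok
  simp only [Bool.and_eq_true, Nat.beq_eq] at h
  rw [hemiSet, ptq_val, h.2]

theorem hemiSet_smul {k : Perm (Fin 275)} (hk : k ∈ K) :
    ∀ σ, Compat k σ → ∀ x ∈ Qset, hemiSet (k x) = σ • hemiSet x := by
  have h := hemi_ok
  simp only [Bool.and_eq_true, Nat.beq_eq, allN_iff, decide_eq_true_eq] at h
  obtain ⟨⟨⟨⟨hlen, -⟩, hall⟩, -⟩, -⟩ := h
  induction hk using Subgroup.closure_induction with
  | mem g hg =>
    intro σ hσ x hx
    obtain ⟨i, hi, hxi⟩ := List.mem_iff_getElem.1 (show (x : ℕ) ∈ Ql from hx)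
    have hi' : i < 162 := hlen ▸ hi
    have hxd : (x : ℕ) = Ql.getD i 0 := by rw [List.getD_eq_getElem _ _ hi, hxi]
    obtain ⟨⟨⟨⟨⟨⟨⟨h1, hA⟩, hB⟩, hqA⟩, hqB⟩, hiA⟩, hiB⟩, -⟩ := hall i hi'
    simp only [Set.mem_insert_iff, Set.mem_singleton_iff] at hg
    rcases hg with rfl | rfl
    · obtain rfl := hσ.unique compat_gens.1
      rw [hemiSet, hemiSet, rep_kA, hxd, hqA, (hall _ (Nat.le_of_ble_eq_true hA)).1.1.1.1.1.1.1, h1]
      exact (imgOK_spec rep_cA hiA).symm
    · obtain rfl := hσ.unique compat_gens.2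
      rw [hemiSet, hemiSet, rep_kB, hxd, hqB, (hall _ (Nat.le_of_ble_eq_true hB)).1.1.1.1.1.1.1, h1]
      exact (imgOK_spec rep_cB hiB).symm
  | one =>
    intro σ hσ x _
    rw [hσ.unique compat_one, one_smul, Perm.one_apply]
  | mul g l hg hl eg el =>
    intro σ hσ x hx
    obtain ⟨σg, -, hg'⟩ := exists_compat hg
    obtain ⟨σl, -, hl'⟩ := exists_compat hl
    rw [hσ.unique (hg'.mul hl'), mul_smul, Perm.mul_apply, eg σg hg' _ (K_Qset hl hx), el σl hl' x hx]
  | inv g hg eg =>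
    intro σ hσ x hx
    have hσ' := hσ.inv
    rw [inv_inv] at hσ'
    have e := eg σ⁻¹ hσ' _ (K_Qset (K.inv_mem hg) hx)
    rw [← Perm.mul_apply, mul_inv_cancel, Perm.one_apply] at e
    rw [e, smul_inv_smul]

theorem hemiSet_inj : Set.InjOn hemiSet Qset := by
  have h := hemi_ok
  simp only [Bool.and_eq_true, Nat.beq_eq, allN_iff, decide_eq_true_eq] at h
  obtain ⟨⟨⟨⟨hlen, hlen'⟩, hall⟩, hnd⟩, -⟩ := h
  intro x hx y hy e
  obtain ⟨i, hi, hxi⟩ := List.mem_iff_getElem.1 (show (x : ℕ) ∈ Ql from hx)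
  obtain ⟨j, hj, hyj⟩ := List.mem_iff_getElem.1 (show (y : ℕ) ∈ Ql from hy)
  have hxd : (x : ℕ) = Ql.getD i 0 := by rw [List.getD_eq_getElem _ _ hi, hxi]
  have hyd : (y : ℕ) = Ql.getD j 0 := by rw [List.getD_eq_getElem _ _ hj, hyj]
  have hi' : i < 162 := hlen ▸ hi
  have hj' : j < 162 := hlen ▸ hj
  rw [hemiSet, hemiSet, hxd, hyd, (hall i hi').1.1.1.1.1.1.1, (hall j hj').1.1.1.1.1.1.1] at e
  have e' : hemi.getD i 0 = hemi.getD j 0 := by
    refine Nat.eq_of_testBit_eq fun b => ?_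
    by_cases hb : b < 112
    · exact Bool.eq_iff_iff.2 (mem_mSet.symm.trans
        ((Finset.ext_iff.1 e ⟨b, hb⟩).trans mem_mSet))
    · have hp : ∀ m, m < 2 ^ 112 → m.testBit b = false := fun m hm =>
        Nat.testBit_lt_two_pow (hm.trans_le (Nat.pow_le_pow_right (by norm_num) (by omega)))
      rw [hp _ (Nat.le_of_ble_eq_true (hall i hi').2), hp _ (Nat.le_of_ble_eq_true (hall j hj').2)]
  rw [List.getD_eq_getElem _ _ (hlen' ▸ hi'), List.getD_eq_getElem _ _ (hlen' ▸ hj'),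
    hnd.getElem_inj_iff] at e'
  exact Fin.ext (by rw [hxd, hyd, e'])

theorem ncard_Qset : Qset.ncard = 162 := by
  have h : decide (Ql.Nodup ∧ Ql.length = 162 ∧ ∀ x ∈ Ql, x < 275) = true := by decide +kernel
  obtain ⟨hnd, hlen, hlt⟩ := of_decide_eq_true h
  rw [← hlen, ← List.toFinset_card_of_nodup hnd, ← Set.ncard_coe_finset,
    ← Set.ncard_image_of_injective Qset Fin.val_injective]
  congr 1
  ext x
  simp only [Set.mem_image, List.coe_toFinset, Set.mem_setOf_eq]
  exact ⟨fun ⟨y, hy, e⟩ => e ▸ hy, fun hx => ⟨⟨x, hlt x hx⟩, hx, rfl⟩⟩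

/-- the stabiliser of a hemisystem -/
abbrev Rq : Subgroup (Perm (Fin 112)) := R ⊓ MulAction.stabilizer (Perm (Fin 112)) (mSet 112 sol1)

theorem orbit_sol1 : MulAction.orbit R (mSet 112 sol1) = hemiSet '' Qset := by
  ext S
  constructor
  · rintro ⟨σ, rfl⟩
    obtain ⟨k, hk, hc⟩ := exists_compat' σ.2
    exact ⟨k ptq, K_Qset hk ptq_mem, by
      rw [hemiSet_smul hk _ hc _ ptq_mem, hemiSet_ptq]; rfl⟩
  · rintro ⟨x, hx, rfl⟩
    obtain ⟨k, hk, rfl⟩ := K_trans_Q ptq_mem hx
    obtain ⟨σ, hσ, hc⟩ := exists_compat hk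
    exact ⟨⟨σ, hσ⟩, by rw [hemiSet_smul hk _ hc _ ptq_mem, hemiSet_ptq]; rfl⟩

theorem card_Rq : Nat.card Rq = 20160 := by
  have h := card_inf_stab R (mSet 112 sol1)
  rw [orbit_sol1, hemiSet_inj.ncard_image, ncard_Qset, natCard_R] at h
  show Nat.card ↥(R ⊓ MulAction.stabilizer (Perm (Fin 112)) (mSet 112 sol1)) = 20160
  omega

theorem mem_Rq_iff (k : K) : (eK k : Perm (Fin 112)) ∈ Rq ↔ (k : Perm (Fin 275)) ptq = ptq := by
  have e := hemiSet_smul k.2 _ (eK_spec k) _ ptq_mem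
  rw [hemiSet_ptq] at e
  constructor
  · intro h
    exact hemiSet_inj (K_Qset k.2 ptq_mem) ptq_mem (e.trans (h.2.trans hemiSet_ptq.symm))
  · intro h
    rw [h, hemiSet_ptq] at e
    exact ⟨(eK k).2, e.symm⟩

theorem mem_R0_iff (k : K) : (eK k : Perm (Fin 112)) ∈ R0 ↔ (k : Perm (Fin 275)) ptp = ptp := by
  constructor
  · intro h
    rw [eK_spec k 0, show (eK k : Perm (Fin 112)) 0 = 0 from h.2]
  · intro h
    rw [eK_spec k 0] at h
    exact ⟨(eK k).2, pt_inj h⟩

theorem phi_ok : (invOK 112 cPhi cPhiI && conjOK 112 cPhi cA phiA && conjOK 112 cPhi cB phiB &&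
    phiA.all elR.contains && phiB.all elR.contains && imgOK 112 cPhi sol1 sol0 &&
    allN 112 (fun x => (sol2.testBit x == !sol1.testBit x) && (sol3.testBit x == !sol0.testBit x))) =
      true := by decide +kernel

theorem exists_phi : ∃ φ ∈ Subgroup.normalizer (R : Set (Perm (Fin 112))),
    φ • mSet 112 sol1 = mSet 112 sol0 := by
  have h := phi_ok
  simp only [Bool.and_eq_true] at h
  obtain ⟨⟨⟨⟨⟨⟨hi, hA⟩, hB⟩, hwA⟩, hwB⟩, himg⟩, -⟩ := h
  obtain ⟨φ, hφ, -⟩ := exists_rep hi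
  refine ⟨φ, mem_normalizer_closure fun x hx => ?_, imgOK_spec hφ himg⟩
  simp only [Set.mem_insert_iff, Set.mem_singleton_iff] at hx
  rcases hx with rfl | rfl
  · exact conj_mem hφ rep_cA (inM_of_contains inM_elR hwA) hA
  · exact conj_mem hφ rep_cB (inM_of_contains inM_elR hwB) hB

theorem compl_sol : mSet 112 sol2 = (mSet 112 sol1)ᶜ ∧ mSet 112 sol3 = (mSet 112 sol0)ᶜ := by
  have h := phi_ok
  simp only [Bool.and_eq_true, allN_iff, beq_iff_eq] at h
  constructor <;> ext x <;> rw [Finset.mem_compl, mem_mSet, mem_mSet]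
  · rw [(h.2 x x.2).1]; simp
  · rw [(h.2 x x.2).2]; simp

/-- subgroups of index 162 are stabilisers of hemisystems of the two classes -/
theorem index_large {X : Subgroup (Perm (Fin 112))} (hX : X ≤ R) (hc : Nat.card X = 20160)
    {φ : Perm (Fin 112)} (hφn : φ ∈ Subgroup.normalizer (R : Set (Perm (Fin 112))))
    (hφ : φ • mSet 112 sol1 = mSet 112 sol0) : ∃ h ∈ R,
      X.map (MulAut.conj h).toMonoidHom = Rq ∨
        X.map (MulAut.conj h).toMonoidHom = Rq.map (MulAut.conj φ).toMonoidHom := by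
  haveI : Fact (Nat.Prime 7) := ⟨by norm_num⟩
  obtain ⟨⟨x, hxX⟩, hxo⟩ := exists_prime_orderOf_dvd_card' (G := X) 7 (by rw [hc]; norm_num)
  rw [Subgroup.orderOf_mk] at hxo
  obtain ⟨⟨h, hh⟩, k, hk⟩ := exists_conj_pow (G := R) (p := 7) (by rw [natCard_R]; norm_num)
    (x := ⟨x, hX hxX⟩) (y := ⟨g0, inM_cG.mem⟩) (by rw [Subgroup.orderOf_mk]; exact hxo)
    (by rw [Subgroup.orderOf_mk]; exact orderOf_g0)
  refine ⟨h, hh, ?_⟩
  set X' := X.map (MulAut.conj h).toMonoidHom with hX'def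
  have hX' : X' ≤ R := by
    rintro _ ⟨g, hg, rfl⟩
    exact R.mul_mem (R.mul_mem hh (hX hg)) (R.inv_mem hh)
  have hc' : Nat.card X' = 20160 := by
    rw [hX'def, Subgroup.card_map_of_injective (MulAut.conj h).injective, hc]
  have hg : g0 ∈ X' := by
    have e : g0 = (h * x * h⁻¹) ^ k := congrArg Subtype.val hk
    rw [e]
    exact X'.pow_mem (Subgroup.mem_map_of_mem (MulAut.conj h).toMonoidHom hxX) k
  obtain ⟨i, hi, hst⟩ := fixes_sol hX' hc' hg
  have hcompl : ∀ S : Finset (Fin 112), MulAction.stabilizer (Perm (Fin 112)) Sᶜ ≤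
      MulAction.stabilizer (Perm (Fin 112)) S := fun S σ hσ => by
    have e : σ • Sᶜ = Sᶜ := hσ
    rw [Finset.compl_eq_univ_sdiff, Finset.smul_finset_sdiff, Finset.smul_finset_univ,
      ← Finset.compl_eq_univ_sdiff, ← Finset.compl_eq_univ_sdiff, compl_inj_iff] at e
    exact e
  have hq : X' ≤ MulAction.stabilizer (Perm (Fin 112)) (mSet 112 sol1) ∨
      X' ≤ MulAction.stabilizer (Perm (Fin 112)) (mSet 112 sol0) := by
    rcases (show i = 0 ∨ i = 1 ∨ i = 2 ∨ i = 3 by omega) with rfl | rfl | rfl | rfl <;>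
      simp only [sols, List.getD_cons_zero, List.getD_cons_succ] at hst
    · exact Or.inr hst
    · exact Or.inl hst
    · exact Or.inl (hst.trans (by rw [compl_sol.1]; exact hcompl _))
    · exact Or.inr (hst.trans (by rw [compl_sol.2]; exact hcompl _))
  rcases hq with hq | hq
  · exact Or.inl (Subgroup.eq_of_le_of_card_ge (le_inf hX' hq) (by rw [card_Rq, hc']))
  · refine Or.inr (Subgroup.eq_of_le_of_card_ge (fun g hgX => ?_) ?_)
    · refine ⟨φ⁻¹ * g * φ, ⟨?_, ?_⟩, by simp [mul_assoc]⟩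
      · exact ((Subgroup.mem_normalizer_iff''.1 hφn) g).1 (hX' hgX)
      · show (φ⁻¹ * g * φ) • mSet 112 sol1 = _
        rw [mul_smul, mul_smul, hφ, show g • mSet 112 sol0 = mSet 112 sol0 from hq hgX, ← hφ,
          inv_smul_smul]
    · rw [Subgroup.card_map_of_injective (MulAut.conj φ).injective, card_Rq, hc']

end CfsgLib.Spor.McLRank3
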