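import Cfsg.Agent.Lib.Spor.PermOut.Basic

/-!
General facts for the rank three recognition of the McLaughlin group: codes of inverses and
conjugates, bit masks as finite sets, certified orbits, and counting in permutation groups.
-/

set_option autoImplicit false

open scoped Pointwise

namespace CfsgLib.Spor.McLRank3

open Equiv CfsgLib.Spor.PermOut

variable {n : ℕ}

theorem inv_app {α : Type*} (σ : Perm α) (x : α) : σ⁻¹ (σ x) = x := σ.symm_apply_apply x

/-- two codes inverse to each other -/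
def invOK (n c ci : ℕ) : Bool :=
  allN n fun i => Nat.blt (getQ c i) n && Nat.beq (getQ ci (getQ c i)) i

theorem exists_rep {c ci : ℕ} (h : invOK n c ci = true) :
    ∃ σ : Perm (Fin n), PermOut.Rep σ c ∧ PermOut.Rep σ⁻¹ ci := by
  simp only [invOK, allN_iff, Bool.and_eq_true, Nat.blt_eq, Nat.beq_eq] at h
  let f : Fin n → Fin n := fun i => ⟨getQ c i, (h i i.2).1⟩
  have hinj : Function.Injective f := fun i j e => by
    have e' : getQ c i = getQ c j := congrArg Fin.val e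
    exact Fin.ext (by rw [← (h i i.2).2, e', (h j j.2).2])
  refine ⟨Equiv.ofBijective f (Finite.injective_iff_bijective.1 hinj), fun i => rfl, fun i => ?_⟩
  set σ := Equiv.ofBijective f (Finite.injective_iff_bijective.1 hinj)
  obtain ⟨j, rfl⟩ := σ.surjective i
  rw [inv_app]
  exact ((h j j.2).2).symm

theorem inM_inv {M : Subgroup (Perm (Fin n))} {c ci : ℕ} (hc : InM M c) (h : invOK n c ci = true) :
    InM M ci := by
  obtain ⟨σ, hσ, hr⟩ := hc
  obtain ⟨τ, hτ, hτi⟩ := exists_rep h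
  rw [hr.unique hτ] at hσ
  exact ⟨τ⁻¹, M.inv_mem hσ, hτi⟩

theorem inM_mono {M N : Subgroup (Perm (Fin n))} {c : ℕ} (hc : InM M c) (h : M ≤ N) : InM N c :=
  hc.imp fun _ hσ => ⟨h hσ.1, hσ.2⟩

theorem inM_one {M : Subgroup (Perm (Fin n))} {c : ℕ}
    (h : allN n (fun i => Nat.beq (getQ c i) i) = true) : InM M c := by
  simp only [allN_iff, Nat.beq_eq] at h
  exact ⟨1, M.one_mem, fun i => (h i i.2).symm⟩

/-- the codes of a program lie in the group of its starting codes -/
theorem inM_rows {M : Subgroup (Perm (Fin n))} {d : ℕ} (base : List ℕ)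
    (rows : List (ℕ × ℕ × ℕ)) (hd : InM M d) (hb : ∀ a ∈ base, InM M a)
    (h : slp n d rows base.length (fill base 0 .nil) = true) :
    ∀ a ∈ base ++ rows.map Prod.fst, InM M a := by
  intro a ha
  rcases List.mem_append.1 ha with ha | ha
  · exact hb a ha
  · exact (inM_slp hd rows _ _ h (all_fill base 0 hb trivial)).1 a ha

theorem inM_of_contains {M : Subgroup (Perm (Fin n))} {L : List ℕ} (hL : ∀ a ∈ L, InM M a)
    {l : List ℕ} (h : (l.all L.contains) = true) : ∀ a ∈ l, InM M a := fun a ha =>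
  hL a (List.contains_iff_mem.1 (List.all_eq_true.1 h a ha))

theorem prod_mem {M : Subgroup (Perm (Fin n))} {w : List ℕ} (hw : ∀ a ∈ w, InM M a) :
    (w.map (permOf n)).prod ∈ M :=
  M.list_prod_mem fun x hx => by
    obtain ⟨a, ha, rfl⟩ := List.mem_map.1 hx
    exact (hw a ha).mem

/-- `c x` is the product of the word followed by `c` -/
def conjOK (n c x : ℕ) (w : List ℕ) : Bool :=
  allN n fun i => Nat.beq (getQ c (getQ x i)) (app w (getQ c i))

theorem conj_eq {M : Subgroup (Perm (Fin n))} {σ X : Perm (Fin n)} {c x : ℕ} {w : List ℕ}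
    (hσ : PermOut.Rep σ c) (hX : PermOut.Rep X x) (hw : ∀ a ∈ w, InM M a) (h : conjOK n c x w = true) :
    σ * X * σ⁻¹ = (w.map (permOf n)).prod := by
  simp only [conjOK, allN_iff, Nat.beq_eq] at h
  refine Equiv.ext fun j => ?_
  obtain ⟨i, rfl⟩ := σ.surjective j
  refine Fin.ext ?_
  rw [Perm.mul_apply, Perm.mul_apply, inv_app, hσ, hX, h i i.2,
    app_prod w fun a ha => (hw a ha).rep, ← hσ i]

theorem conj_mem {M : Subgroup (Perm (Fin n))} {σ X : Perm (Fin n)} {c x : ℕ} {w : List ℕ}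
    (hσ : PermOut.Rep σ c) (hX : PermOut.Rep X x) (hw : ∀ a ∈ w, InM M a) (h : conjOK n c x w = true) :
    σ * X * σ⁻¹ ∈ M := by
  rw [conj_eq hσ hX hw h]
  exact prod_mem hw

theorem mem_normalizer_closure {G : Type*} [Group G] [Finite G] {σ : G} {s : Set G}
    (h : ∀ x ∈ s, σ * x * σ⁻¹ ∈ Subgroup.closure s) :
    σ ∈ Subgroup.normalizer (Subgroup.closure s : Set G) := by
  have hle : (Subgroup.closure s).map (MulAut.conj σ).toMonoidHom ≤ Subgroup.closure s := by
    rw [MonoidHom.map_closure, Subgroup.closure_le]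
    rintro _ ⟨x, hx, rfl⟩
    exact h x hx
  have he := Subgroup.eq_of_le_of_card_ge hle
    (Subgroup.card_map_of_injective (MulAut.conj σ).injective).ge
  rw [Subgroup.mem_normalizer_iff]
  intro x
  constructor
  · intro hx
    exact hle ⟨x, hx, rfl⟩
  · intro hx
    rw [← he] at hx
    obtain ⟨y, hy, e⟩ := hx
    have e' : y = x := by simpa using e
    rwa [← e']

/-- the set coded by a mask -/
def mSet (n m : ℕ) : Finset (Fin n) := Finset.univ.filter fun i : Fin n => m.testBit i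

theorem mem_mSet {m : ℕ} {i : Fin n} : i ∈ mSet n m ↔ m.testBit i = true := by
  simp [mSet]

/-- the mask of a list -/
def mk : List ℕ → ℕ
  | [] => 0
  | x :: r => mk r ||| 2 ^ x

theorem testBit_mk : ∀ (l : List ℕ) (i : ℕ), (mk l).testBit i = true ↔ i ∈ l
  | [], i => by simp [mk]
  | x :: r, i => by
    simp only [mk, Nat.testBit_or, Bool.or_eq_true, testBit_mk r, Nat.testBit_two_pow,
      decide_eq_true_eq, List.mem_cons]
    tauto

theorem mem_mSet_mk {l : List ℕ} {i : Fin n} : i ∈ mSet n (mk l) ↔ (i : ℕ) ∈ l :=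
  mem_mSet.trans (testBit_mk l i)

/-- the mask of the image -/
def imgOK (n c m m' : ℕ) : Bool := allN n fun i => m'.testBit (getQ c i) == m.testBit i

theorem imgOK_spec {σ : Perm (Fin n)} {c m m' : ℕ} (hσ : PermOut.Rep σ c) (h : imgOK n c m m' = true) :
    σ • mSet n m = mSet n m' := by
  simp only [imgOK, allN_iff, beq_iff_eq] at h
  ext j
  obtain ⟨i, rfl⟩ := σ.surjective j
  rw [Finset.mem_smul_finset]
  constructor
  · rintro ⟨i', hi', e⟩
    rw [Perm.smul_def, σ.injective.eq_iff] at e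
    subst e
    rw [mem_mSet] at hi' ⊢
    rwa [hσ, h i' i'.2]
  · intro hi
    rw [mem_mSet, hσ, h i i.2] at hi
    exact ⟨i, mem_mSet.2 hi, rfl⟩

theorem smul_mk {σ : Perm (Fin n)} {c : ℕ} (hσ : PermOut.Rep σ c) {l : List ℕ} (hl : ∀ x ∈ l, x < n) :
    σ • mSet n (mk l) = mSet n (mk (l.map (getQ c))) := by
  ext j
  rw [Finset.mem_smul_finset, mem_mSet_mk, List.mem_map]
  constructor
  · rintro ⟨i, hi, rfl⟩
    exact ⟨i, mem_mSet_mk.1 hi, (hσ i).symm⟩
  · rintro ⟨x, hx, e⟩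
    refine ⟨⟨x, hl x hx⟩, mem_mSet_mk.2 hx, Fin.ext ?_⟩
    rw [Perm.smul_def, hσ]
    exact e

theorem mk_eq {l l' : List ℕ} (hl : ∀ x ∈ l, x < n) (hl' : ∀ x ∈ l', x < n)
    (h : mSet n (mk l) = mSet n (mk l')) : mk l = mk l' := by
  refine Nat.eq_of_testBit_eq fun i => Bool.eq_iff_iff.2 ?_
  rw [testBit_mk, testBit_mk]
  constructor
  · exact fun hi => mem_mSet_mk.1 ((Finset.ext_iff.1 h ⟨i, hl i hi⟩).1 (mem_mSet_mk.2 hi))
  · exact fun hi => mem_mSet_mk.1 ((Finset.ext_iff.1 h ⟨i, hl' i hi⟩).2 (mem_mSet_mk.2 hi))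

/-- a subgroup element fixing `x`, and the orbit of `x`, count the subgroup -/
theorem card_inf_stab {G α : Type*} [Group G] [Finite G] [MulAction G α] (H : Subgroup G) (x : α) :
    Nat.card ↥(H ⊓ MulAction.stabilizer G x) * (MulAction.orbit H x).ncard = Nat.card H := by
  rw [← MulAction.index_stabilizer, ← Subgroup.card_mul_index (MulAction.stabilizer H x)]
  congr 1
  exact Nat.card_congr
    { toFun := fun g => ⟨⟨g.1, g.2.1⟩, g.2.2⟩
      invFun := fun g => ⟨g.1.1, g.1.2, g.2⟩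
      left_inv := fun _ => rfl
      right_inv := fun _ => rfl }

/-- the images under listed elements bound the orbit from below -/
theorem card_images_le {M : Subgroup (Perm (Fin n))} {els l : List ℕ}
    (hels : ∀ c ∈ els, InM M c) (hl : ∀ x ∈ l, x < n) :
    (els.map fun c => mk (l.map (getQ c))).dedup.length ≤
      (MulAction.orbit M (mSet n (mk l))).ncard := by
  classical
  set L := (els.map fun c => mk (l.map (getQ c))).dedup
  have hmem : ∀ m ∈ L, mSet n m ∈ MulAction.orbit M (mSet n (mk l)) ∧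
      ∃ l', (∀ x ∈ l', x < n) ∧ m = mk l' := by
    intro m hm
    rw [List.mem_dedup, List.mem_map] at hm
    obtain ⟨c, hc, rfl⟩ := hm
    obtain ⟨σ, hσ, hr⟩ := hels c hc
    refine ⟨⟨⟨σ, hσ⟩, smul_mk hr hl⟩, _, fun x hx => ?_, rfl⟩
    obtain ⟨y, hy, rfl⟩ := List.mem_map.1 hx
    have := hr ⟨y, hl y hy⟩
    exact this ▸ (σ _).2
  have hinj : Set.InjOn (mSet n) {m | m ∈ L} := by
    intro m hm m' hm' e
    obtain ⟨-, a, ha, rfl⟩ := hmem m hm
    obtain ⟨-, b, hb, rfl⟩ := hmem m' hm'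
    exact mk_eq ha hb e
  have hc : (mSet n '' {m | m ∈ L}).ncard = L.length := by
    rw [hinj.ncard_image, ← List.toFinset_card_of_nodup (List.nodup_dedup _),
      ← Set.ncard_coe_finset]
    simp [L]
  rw [← hc]
  exact Set.ncard_le_ncard (by rintro _ ⟨m, hm, rfl⟩; exact (hmem m hm).1) (Set.toFinite _)

/-- each new point is the image of an earlier one -/
def reachStep (cs : List ℕ) : List (ℕ × ℕ × ℕ) → List ℕ → Bool
  | [], _ => true
  | (y, z, j) :: r, seen =>
    seen.contains z && Nat.blt j cs.length && Nat.beq (getQ (cs.getD j 0) z) y &&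
      reachStep cs r (y :: seen)

/-- a certified orbit -/
def reachOK (n : ℕ) (cs : List ℕ) (o : ℕ × List (ℕ × ℕ × ℕ)) : Bool :=
  Nat.blt o.1 n && reachStep cs o.2 [o.1]

/-- the points of a certified orbit -/
def reachPts (o : ℕ × List (ℕ × ℕ × ℕ)) : List ℕ := o.1 :: o.2.map Prod.fst

theorem reachStep_spec {M : Subgroup (Perm (Fin n))} {cs : List ℕ} (hcs : ∀ c ∈ cs, InM M c)
    (h0 : Fin n) : ∀ (r : List (ℕ × ℕ × ℕ)) (seen : List ℕ), reachStep cs r seen = true →
      (∀ y ∈ seen, ∃ σ ∈ M, ((σ h0 : Fin n) : ℕ) = y) →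
      ∀ y ∈ seen ++ r.map Prod.fst, ∃ σ ∈ M, ((σ h0 : Fin n) : ℕ) = y
  | [], seen, _, hs => by simpa using hs
  | (y, z, j) :: r, seen, hok, hs => by
    simp only [reachStep, Bool.and_eq_true, List.contains_iff_mem, Nat.blt_eq, Nat.beq_eq] at hok
    obtain ⟨⟨⟨hz, hj⟩, he⟩, hr⟩ := hok
    obtain ⟨σ, hσ, hσz⟩ := hs z hz
    obtain ⟨τ, hτ, hτr⟩ := hcs (cs.getD j 0) (by
      rw [List.getD_eq_getElem _ _ hj]; exact List.getElem_mem hj)
    have hy : ((τ * σ) h0 : ℕ) = y := by rw [Perm.mul_apply, hτr, hσz, he]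
    have ih := reachStep_spec hcs h0 r (y :: seen) hr fun w hw => by
      rcases List.mem_cons.1 hw with rfl | hw
      · exact ⟨τ * σ, M.mul_mem hτ hσ, hy⟩
      · exact hs w hw
    intro w hw
    refine ih w ?_
    simp only [List.map_cons, List.mem_append, List.mem_cons] at hw ⊢
    tauto

theorem reach_spec {M : Subgroup (Perm (Fin n))} {cs : List ℕ} (hcs : ∀ c ∈ cs, InM M c)
    {o : ℕ × List (ℕ × ℕ × ℕ)} (h : reachOK n cs o = true) (i j : Fin n)
    (hi : (i : ℕ) ∈ reachPts o) (hj : (j : ℕ) ∈ reachPts o) : ∃ σ ∈ M, σ i = j := by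
  simp only [reachOK, Bool.and_eq_true, Nat.blt_eq] at h
  have key := reachStep_spec hcs ⟨o.1, h.1⟩ o.2 [o.1] h.2 fun y hy => by
    rw [List.mem_singleton] at hy
    exact ⟨1, M.one_mem, by simp [hy]⟩
  obtain ⟨σ, hσ, hσi⟩ := key i hi
  obtain ⟨τ, hτ, hτj⟩ := key j hj
  refine ⟨τ * σ⁻¹, M.mul_mem hτ (M.inv_mem hσ), ?_⟩
  rw [Perm.mul_apply, ← show σ ⟨o.1, h.1⟩ = i from Fin.ext hσi, inv_app]
  exact Fin.ext hτj

/-- a set invariant under a group is a union of certified orbits -/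
theorem reach_subset {M : Subgroup (Perm (Fin n))} {cs : List ℕ} (hcs : ∀ c ∈ cs, InM M c)
    {o : ℕ × List (ℕ × ℕ × ℕ)} (h : reachOK n cs o = true) {S : Set (Fin n)}
    (hS : ∀ σ ∈ M, ∀ x ∈ S, σ x ∈ S) (i j : Fin n)
    (hi : (i : ℕ) ∈ reachPts o) (hj : (j : ℕ) ∈ reachPts o) (hmem : i ∈ S) : j ∈ S := by
  obtain ⟨σ, hσ, rfl⟩ := reach_spec hcs h i j hi hj
  exact hS σ hσ i hmem

end CfsgLib.Spor.McLRank3
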