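import Cfsg.Agent.Lib.Spor.McLRank3.Deg112
import Cfsg.Agent.Lib.Spor.McLRank3.DataGQ

/-!
The automorphisms of the collinearity table normalise the group of degree 112.
-/

set_option autoImplicit false
set_option maxRecDepth 100000

namespace CfsgLib.Spor.McLRank3

open Equiv CfsgLib.Spor.PermOut

/-- collinearity of two points -/
def adjB (x y : ℕ) : Bool := (adjT.getD x 0).testBit y

/-- the automorphisms of the collinearity table -/
def AutA : Subgroup (Perm (Fin 112)) where
  carrier := {s | ∀ x y : Fin 112, adjB (s x) (s y) = adjB x y}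
  mul_mem' := fun {s t} hs ht x y => by rw [Perm.mul_apply, Perm.mul_apply, hs, ht]
  one_mem' := fun _ _ => rfl
  inv_mem' := fun {s} hs x y => by
    conv_rhs => rw [← s.apply_symm_apply x, ← s.apply_symm_apply y, hs]
    rfl

theorem mem_AutA {s : Perm (Fin 112)} :
    s ∈ AutA ↔ ∀ x y : Fin 112, adjB (s x) (s y) = adjB x y := Iff.rfl

/-- a code preserves the collinearity table -/
def adjOK (c : ℕ) : Bool :=
  allN 112 fun x => imgOK 112 c (adjT.getD x 0) (adjT.getD (getQ c x) 0)

theorem adjOK_spec {σ : Perm (Fin 112)} {c : ℕ} (hσ : PermOut.Rep σ c) (h : adjOK c = true) :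
    σ ∈ AutA := by
  simp only [adjOK, imgOK, allN_iff, beq_iff_eq] at h
  intro x y
  show (adjT.getD (σ x : ℕ) 0).testBit (σ y : ℕ) = _
  rw [hσ, hσ]
  exact h x x.2 y y.2

theorem R_le_AutA : R ≤ AutA := by
  rw [Subgroup.closure_le]
  rintro σ hσ
  simp only [Set.mem_insert_iff, Set.mem_singleton_iff] at hσ
  rcases hσ with rfl | rfl
  · exact adjOK_spec rep_cA (by decide +kernel)
  · exact adjOK_spec rep_cB (by decide +kernel)

/-- the automorphisms that normalise the group -/
abbrev NA : Subgroup (Perm (Fin 112)) := Subgroup.normalizer (R : Set (Perm (Fin 112))) ⊓ AutA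

/-- all codes of the program for the automorphisms -/
def gqElts : List ℕ := (cId :: gqGen.flatMap fun g => [g.1, g.2.1]) ++ gqRows.map Prod.fst

theorem gqGen_ok : (gqGen.all fun g => invOK 112 g.1 g.2.1 && adjOK g.1 &&
    conjOK 112 g.1 cA g.2.2.1 && conjOK 112 g.1 cB g.2.2.2 &&
    (g.2.2.1 ++ g.2.2.2).all elR.contains) = true := by decide +kernel

theorem inM_gqElts : ∀ a ∈ gqElts, InM NA a := by
  refine inM_rows (M := NA) (d := cId) (cId :: gqGen.flatMap fun g => [g.1, g.2.1]) gqRows
    (inM_one (by decide +kernel)) (fun a ha => ?_) (by decide +kernel)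
  rcases List.mem_cons.1 ha with rfl | ha
  · exact inM_one (by decide +kernel)
  obtain ⟨g, hg, ha⟩ := List.mem_flatMap.1 ha
  have h := List.all_eq_true.1 gqGen_ok g hg
  simp only [Bool.and_eq_true, List.all_append] at h
  obtain ⟨⟨⟨⟨hi, hadj⟩, hA⟩, hB⟩, hwA, hwB⟩ := h
  obtain ⟨σ, hσ, hσi⟩ := exists_rep hi
  have hmem : σ ∈ NA := ⟨mem_normalizer_closure fun x hx => by
    simp only [Set.mem_insert_iff, Set.mem_singleton_iff] at hx
    rcases hx with rfl | rfl
    · exact conj_mem hσ rep_cA (inM_of_contains inM_elR hwA) hA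
    · exact conj_mem hσ rep_cB (inM_of_contains inM_elR hwB) hB, adjOK_spec hσ hadj⟩
  simp only [List.mem_cons, List.not_mem_nil, or_false] at ha
  rcases ha with rfl | rfl
  · exact ⟨σ, hmem, hσ⟩
  · exact ⟨σ⁻¹, NA.inv_mem hmem, hσi⟩

/-- the two points have the same relations to the listed ones -/
def sameB (done : List ℕ) (x y : ℕ) : Bool :=
  done.all fun d => Nat.beq x d == Nat.beq y d && adjB d x == adjB d y

/-- the levels exhaust the automorphisms -/
def gqLevOK : List (ℕ × List ℕ) → List ℕ → Bool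
  | [], done => allN 112 fun x => allN 112 fun y => Nat.beq x y || !sameB done x y
  | (b, ts) :: r, done =>
    Nat.blt b 112 && (allN 112 fun y => !sameB done b y ||
      ts.any fun t => Nat.beq (getQ t b) y && done.all fun d => Nat.beq (getQ t d) d) &&
      gqLevOK r (b :: done)

theorem gqLev_ok : gqLevOK gqLev [] = true := by decide +kernel

theorem gqLev_mem : (gqLev.all fun l => l.2.all gqElts.contains) = true := by decide +kernel

theorem sameB_of_fix {s : Perm (Fin 112)} (hs : s ∈ AutA) {done : List ℕ}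
    (hd : ∀ d ∈ done, d < 112) (hfix : ∀ d : Fin 112, (d : ℕ) ∈ done → s d = d) (x : Fin 112) :
    sameB done x (s x : ℕ) = true := by
  simp only [sameB, List.all_eq_true, Bool.and_eq_true, beq_iff_eq]
  intro d hdm
  have hf := hfix ⟨d, hd d hdm⟩ hdm
  refine ⟨Bool.eq_iff_iff.2 ?_, ?_⟩
  · rw [Nat.beq_eq, Nat.beq_eq]
    constructor
    · intro e
      rw [show x = ⟨d, hd d hdm⟩ from Fin.ext e, hf]
    · intro e
      have e' : s x = s ⟨d, hd d hdm⟩ := by rw [hf]; exact Fin.ext e
      exact congrArg Fin.val (s.injective e')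
  · have h := hs ⟨d, hd d hdm⟩ x
    rw [hf] at h
    exact h.symm

theorem mem_NA_of_fix : ∀ (lev : List (ℕ × List ℕ)) (done : List ℕ), gqLevOK lev done = true →
    (∀ l ∈ lev, ∀ t ∈ l.2, InM NA t) → (∀ d ∈ done, d < 112) → ∀ s ∈ AutA,
      (∀ d : Fin 112, (d : ℕ) ∈ done → s d = d) → s ∈ NA
  | [], done, hok, _, hd, s, hs, hfix => by
    simp only [gqLevOK, allN_iff, Bool.or_eq_true, Nat.beq_eq, Bool.not_eq_true'] at hok
    have h1 : s = 1 := Equiv.ext fun x => Fin.ext <| by
      rcases hok x x.2 _ (s x).2 with h | h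
      · exact h.symm
      · rw [sameB_of_fix hs hd hfix x] at h; exact absurd h (by simp)
    rw [h1]
    exact NA.one_mem
  | (b, ts) :: r, done, hok, hM, hd, s, hs, hfix => by
    simp only [gqLevOK, allN_iff, Bool.and_eq_true, Nat.blt_eq, Bool.or_eq_true, Bool.not_eq_true',
      List.any_eq_true, List.all_eq_true, Nat.beq_eq] at hok
    obtain ⟨⟨hb, hlev⟩, hr⟩ := hok
    rcases hlev (s ⟨b, hb⟩ : ℕ) (s _).2 with h | ⟨t, ht, htb, htd⟩
    · rw [sameB_of_fix hs hd hfix ⟨b, hb⟩] at h; exact absurd h (by simp)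
    obtain ⟨τ, hτ, hτr⟩ := hM _ List.mem_cons_self t ht
    have hkey : τ⁻¹ * s ∈ NA := by
      refine mem_NA_of_fix r (b :: done) hr (fun l hl => hM l (List.mem_cons_of_mem _ hl))
        (fun d hdm => ?_) _ (AutA.mul_mem (AutA.inv_mem hτ.2) hs) fun d hdm => ?_
      · rcases List.mem_cons.1 hdm with rfl | hdm
        · exact hb
        · exact hd d hdm
      · rw [Perm.mul_apply, Perm.inv_eq_iff_eq]
        rcases List.mem_cons.1 hdm with e | hdm
        · refine Fin.ext ?_
          rw [hτr, e, show d = ⟨b, hb⟩ from Fin.ext e]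
          exact htb.symm
        · rw [hfix d hdm]
          exact Fin.ext ((hτr d).trans (htd d hdm)).symm
    have := NA.mul_mem hτ hkey
    rwa [mul_inv_cancel_left] at this

theorem AutA_le_normalizer : AutA ≤ Subgroup.normalizer (R : Set (Perm (Fin 112))) := fun s hs =>
  (mem_NA_of_fix gqLev [] gqLev_ok
    (fun l hl t ht => inM_gqElts t (List.contains_iff_mem.1
      (List.all_eq_true.1 (List.all_eq_true.1 gqLev_mem l hl) t ht)))
    (by simp) s hs (by simp)).1

end CfsgLib.Spor.McLRank3
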