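import Cfsg.Agent.Lib.Spor.McLRank3.Deg275
import Cfsg.Agent.Lib.Spor.McLRank3.GQAut
import Mathlib.GroupTheory.GroupAction.Blocks

/-!
A transitive group on 275 points with the point stabiliser of the model is conjugate to the model.
-/

set_option autoImplicit false
set_option maxRecDepth 100000

open scoped Pointwise

namespace CfsgLib.Spor.McLRank3

open Equiv CfsgLib.Spor.PermOut

/-- a transitive group with the prescribed point stabiliser -/
structure IsExt (G : Subgroup (Perm (Fin 275))) : Prop where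
  trans : ∀ i, ∃ g ∈ G, g (0 : Fin 275) = i
  stab : G ⊓ MulAction.stabilizer (Perm (Fin 275)) (0 : Fin 275) = K

/-- the orbital relation of the orbit of length 112 -/
def Orb (G : Subgroup (Perm (Fin 275))) (i j : Fin 275) : Prop :=
  ∃ g ∈ G, g 0 = i ∧ g⁻¹ j ∈ Pset

theorem ncard_Pset : Pset.ncard = 112 := by
  rw [Pset, Set.ncard_range_of_injective pt_inj, Nat.card_fin]

/-- constant out-degree and constant in-degree are equal -/
theorem outdeg_eq_indeg {α : Type*} [Fintype α] [Nonempty α] (r : α → α → Prop) {d i : ℕ}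
    (h1 : ∀ u, {j | r u j}.ncard = d) (h2 : ∀ u, {z | r z u}.ncard = i) : d = i := by
  classical
  have h := Finset.sum_card_bipartiteAbove_eq_sum_card_bipartiteBelow r
    (s := Finset.univ) (t := Finset.univ)
  have e1 : ∀ u, (Finset.bipartiteAbove r Finset.univ u).card = d := fun u => by
    rw [← h1 u, ← Set.ncard_coe_finset]
    congr 1
    ext; simp [Finset.bipartiteAbove]
  have e2 : ∀ u, (Finset.bipartiteBelow r Finset.univ u).card = i := fun u => by
    rw [← h2 u, ← Set.ncard_coe_finset]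
    congr 1
    ext; simp [Finset.bipartiteBelow]
  simp only [e1, e2, Finset.sum_const, Finset.card_univ, smul_eq_mul] at h
  exact Nat.eq_of_mul_eq_mul_left Fintype.card_pos h

namespace IsExt

variable {G : Subgroup (Perm (Fin 275))} (h : IsExt G)

theorem isExt_model {M : Subgroup (Perm (Fin 275))} (hM : IsModel M) : IsExt M :=
  ⟨model_trans hM 0, model_stab hM⟩

include h

theorem K_le : K ≤ G := h.stab ▸ inf_le_left

theorem mem_K {g : Perm (Fin 275)} (hg : g ∈ G) (h0 : g 0 = 0) : g ∈ K := h.stab ▸ ⟨hg, h0⟩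

theorem orb_iff {g : Perm (Fin 275)} (hg : g ∈ G) {i j : Fin 275} (hi : g 0 = i) :
    Orb G i j ↔ g⁻¹ j ∈ Pset := by
  refine ⟨fun ⟨g', hg', hi', hj⟩ => ?_, fun hj => ⟨g, hg, hi, hj⟩⟩
  have hk := h.mem_K (G.mul_mem (G.inv_mem hg) hg') (by rw [Perm.mul_apply, hi', ← hi, inv_app])
  have := K_Pset hk hj
  rwa [Perm.mul_apply, ← Perm.mul_apply g', mul_inv_cancel, Perm.one_apply] at this

theorem orb_zero {j : Fin 275} : Orb G 0 j ↔ j ∈ Pset := by
  rw [h.orb_iff G.one_mem (Perm.one_apply 0), inv_one, Perm.one_apply]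

theorem orb_smul {g : Perm (Fin 275)} (hg : g ∈ G) (i j : Fin 275) :
    Orb G (g i) (g j) ↔ Orb G i j := by
  obtain ⟨f, hf, rfl⟩ := h.trans i
  rw [h.orb_iff (G.mul_mem hg hf) (Perm.mul_apply g f 0), h.orb_iff hf rfl, mul_inv_rev, Perm.mul_apply, inv_app]

theorem orb_irrefl (i : Fin 275) : ¬ Orb G i i := by
  obtain ⟨f, hf, rfl⟩ := h.trans i
  rw [h.orb_iff hf rfl, inv_app]
  exact zero_notMem_Pset

theorem ncard_orb (i : Fin 275) : {j | Orb G i j}.ncard = 112 := by
  obtain ⟨f, hf, rfl⟩ := h.trans i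
  have e : {j | Orb G (f 0) j} = f '' Pset := by
    ext j
    rw [Set.mem_setOf_eq, h.orb_iff hf rfl]
    exact ⟨fun hj => ⟨_, hj, f.apply_symm_apply j⟩, fun ⟨x, hx, e⟩ => by rw [← e, inv_app]; exact hx⟩
  rw [e, Set.ncard_image_of_injective _ f.injective, ncard_Pset]

theorem orb_to_zero {i : Fin 275} : Orb G i 0 ↔ i ∈ Pset := by
  classical
  set I : Set (Fin 275) := {i | Orb G i 0}
  have hin : ∀ j, {z | Orb G z j}.ncard = I.ncard := by
    intro j
    obtain ⟨f, hf, rfl⟩ := h.trans j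
    have e : {z | Orb G z (f 0)} = f '' I := by
      ext z
      constructor
      · intro hz
        refine ⟨f⁻¹ z, ?_, f.apply_symm_apply z⟩
        show Orb G (f⁻¹ z) 0
        rw [← h.orb_smul hf, show f (f⁻¹ z) = z from f.apply_symm_apply z]
        exact hz
      · rintro ⟨w, hw, rfl⟩
        exact (h.orb_smul hf w 0).2 hw
    rw [e, Set.ncard_image_of_injective _ f.injective]
  have hI : I.ncard = 112 := (outdeg_eq_indeg (Orb G) h.ncard_orb hin).symm
  have hinv : ∀ k ∈ K, ∀ x ∈ I, k x ∈ I := fun k hk x hx => by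
    show Orb G (k x) 0
    rw [← K_apply_zero hk]
    exact (h.orb_smul (h.K_le hk) x 0).2 hx
  have hsub : I ⊆ Pset := by
    intro x hx
    by_contra hxP
    have hx0 : x ≠ 0 := fun e => h.orb_irrefl 0 (by rw [e] at hx; exact hx)
    have hQ : Qset ⊆ I := fun y hy => by
      obtain ⟨k, hk, rfl⟩ := K_trans_Q (mem_Qset_iff.2 ⟨hx0, hxP⟩) hy
      exact hinv k hk x hx
    have := Set.ncard_le_ncard hQ
    rw [ncard_Qset, hI] at this
    omega
  have he := Set.eq_of_subset_of_ncard_le hsub (by rw [hI, ncard_Pset])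
  exact Set.ext_iff.1 he i

theorem orb_symm {i j : Fin 275} (hij : Orb G i j) : Orb G j i := by
  obtain ⟨f, hf, rfl⟩ := h.trans j
  rw [h.orb_iff hf rfl, ← h.orb_to_zero, ← h.orb_smul hf,
    show f (f⁻¹ i) = i from f.apply_symm_apply i]
  exact hij

theorem orb_comm {i j : Fin 275} : Orb G i j ↔ Orb G j i := ⟨h.orb_symm, h.orb_symm⟩

end IsExt

/-- a union of `{0}` and certified orbits -/
def build (o₁ o₂ o₃ o₄ : ℕ × List (ℕ × ℕ × ℕ)) (a b c d : Bool) (zero : Bool) : Finset (Fin 275) :=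
  Finset.univ.filter fun x =>
    ((zero && Nat.beq x 0) || (a && (reachPts o₁).contains x) || (b && (reachPts o₂).contains x) ||
      (c && (reachPts o₃).contains x) || (d && (reachPts o₄).contains x)) = true

theorem mem_build {o₁ o₂ o₃ o₄ : ℕ × List (ℕ × ℕ × ℕ)} {a b c d zero : Bool} {x : Fin 275} :
    x ∈ build o₁ o₂ o₃ o₄ a b c d zero ↔
      ((zero && Nat.beq x 0) || (a && (reachPts o₁).contains x) || (b && (reachPts o₂).contains x) ||
        (c && (reachPts o₃).contains x) || (d && (reachPts o₄).contains x)) = true :=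
  Finset.mem_filter.trans (and_iff_right (Finset.mem_univ x))

/-- unions of orbits of the stabiliser of `p` -/
def buildP (a b c d : Bool) : Finset (Fin 275) := build p30 p81 pQ1 pQ2 a b c d true

/-- unions of orbits of the stabiliser of `q` -/
def buildQ (a b c d : Bool) : Finset (Fin 275) := build qP1 qP2 qQ56 qQ105 a b c d false

/-- the neighbours of `p` in the model -/
def nb1 : Finset (Fin 275) := buildP true false true false

/-- the neighbours of `p` in the twisted model -/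
def nb2 : Finset (Fin 275) := buildP true false false true

theorem buildP_card : ∀ a b c d : Bool, (buildP a b c d).card = 112 →
    (a = true ∧ b = false ∧ c = true ∧ d = false) ∨ (a = true ∧ b = false ∧ c = false ∧ d = true) ∨
      (a = true ∧ b = true ∧ c = false ∧ d = false) := by decide +kernel

theorem buildQ_card : ∀ a b c d c' d' : Bool, (buildQ a b c d).card = 112 →
    (buildQ a b c' d').card = 112 → c = c' ∧ d = d' := by decide +kernel

theorem coverP : allN 275 (fun x => Nat.beq x 0 || Nat.beq x (Pl.getD 0 0) ||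
    (reachPts p30).contains x || (reachPts p81).contains x || (reachPts pQ1).contains x ||
    (reachPts pQ2).contains x) = true := by decide +kernel

theorem coverQ : allN 275 (fun x => Nat.beq x 0 || Nat.beq x ptQ ||
    (reachPts qP1).contains x || (reachPts qP2).contains x || (reachPts qQ56).contains x ||
    (reachPts qQ105).contains x) = true := by decide +kernel

theorem classP_sub : (([p30, p81, pQ1, pQ2]).all fun o => reachOK 275 gensP o) = true := by
  decide +kernel

theorem classQ_sub : (([qP1, qP2, qQ56, qQ105]).all fun o => reachOK 275 gensQ o) = true := by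
  decide +kernel

theorem clique_eq : allN 275 (fun x =>
    ((Nat.beq x 0) || (reachPts p30).contains x || (reachPts p81).contains x) ==
      (Nat.beq x 0 || (Pl.contains x && !Nat.beq x (Pl.getD 0 0)))) = true := by decide +kernel

theorem inM_gensP : ∀ c ∈ gensP, InM (K ⊓ MulAction.stabilizer (Perm (Fin 275)) ptp) c := by
  have h : (gensP.all fun c => elK.contains c && Nat.beq (getQ c (Pl.getD 0 0)) (Pl.getD 0 0)) =
      true := by decide +kernel
  intro c hc
  have h' := List.all_eq_true.1 h c hc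
  rw [Bool.and_eq_true, List.contains_iff_mem, Nat.beq_eq] at h'
  obtain ⟨σ, hσ, hr⟩ := inM_elK c h'.1
  refine ⟨σ, ⟨hσ, Fin.ext ?_⟩, hr⟩
  rw [Perm.smul_def, hr, ptp, pt_val]
  exact h'.2

theorem inM_gensQ : ∀ c ∈ gensQ, InM (K ⊓ MulAction.stabilizer (Perm (Fin 275)) ptq) c := by
  have h : (gensQ.all fun c => elK.contains c && Nat.beq (getQ c ptQ) ptQ) = true := by
    decide +kernel
  intro c hc
  have h' := List.all_eq_true.1 h c hc
  rw [Bool.and_eq_true, List.contains_iff_mem, Nat.beq_eq] at h'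
  obtain ⟨σ, hσ, hr⟩ := inM_elK c h'.1
  refine ⟨σ, ⟨hσ, Fin.ext ?_⟩, hr⟩
  rw [Perm.smul_def, hr, ptq_val]
  exact h'.2

theorem ptp_mem : ptp ∈ Pset := ⟨0, rfl⟩

theorem zero_ne_ptq : (0 : Fin 275) ≠ ptq := fun e => (mem_Qset_iff.1 ptq_mem).1 e.symm

theorem ptq_notMem : ptq ∉ Pset := (mem_Qset_iff.1 ptq_mem).2

namespace IsExt

variable {G : Subgroup (Perm (Fin 275))} (h : IsExt G)

include h

theorem orb_stab_inv {y : Fin 275} {σ : Perm (Fin 275)}
    (hσ : σ ∈ K ⊓ MulAction.stabilizer (Perm (Fin 275)) y) {x : Fin 275}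
    (hx : x ∈ {x | Orb G y x}) : σ x ∈ {x | Orb G y x} := by
  show Orb G y (σ x)
  rw [← show σ y = y from hσ.2]
  exact (h.orb_smul (h.K_le hσ.1) y x).2 hx

/-- the possible neighbourhoods of `p` -/
theorem cases_p : (∀ x, Orb G ptp x ↔ x ∈ nb1) ∨ (∀ x, Orb G ptp x ↔ x ∈ nb2) := by
  classical
  let bit : ℕ × List (ℕ × ℕ × ℕ) → Bool := fun o =>
    decide (∃ x : Fin 275, (x : ℕ) ∈ reachPts o ∧ Orb G ptp x)
  have hcls : ∀ o ∈ [p30, p81, pQ1, pQ2], ∀ x : Fin 275, (x : ℕ) ∈ reachPts o →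
      (Orb G ptp x ↔ bit o = true) := by
    intro o ho x hx
    refine ⟨fun hxo => decide_eq_true ⟨x, hx, hxo⟩, fun hb => ?_⟩
    obtain ⟨y, hy, hyo⟩ := of_decide_eq_true hb
    exact reach_subset inM_gensP (List.all_eq_true.1 classP_sub o ho)
      (fun σ hσ z hz => h.orb_stab_inv hσ hz) y x hy hx hyo
  have hS : ∀ x, Orb G ptp x ↔ x ∈ buildP (bit p30) (bit p81) (bit pQ1) (bit pQ2) := by
    intro x
    simp only [buildP, build, Finset.mem_filter, Finset.mem_univ, true_and, Bool.or_eq_true,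
      Bool.and_eq_true, List.contains_iff_mem, Nat.beq_eq]
    constructor
    · intro hx
      have hc := allN_iff.1 coverP x x.2
      simp only [Bool.or_eq_true, List.contains_iff_mem, Nat.beq_eq] at hc
      rcases hc with ((((hc | hc) | hc) | hc) | hc) | hc
      · exact Or.inl (Or.inl (Or.inl (Or.inl hc)))
      · exact absurd ((show x = ptp from Fin.ext (hc.trans (pt_val 0).symm)) ▸ hx) (h.orb_irrefl _)
      · exact Or.inl (Or.inl (Or.inl (Or.inr ⟨(hcls _ (by simp) x hc).1 hx, hc⟩)))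
      · exact Or.inl (Or.inl (Or.inr ⟨(hcls _ (by simp) x hc).1 hx, hc⟩))
      · exact Or.inl (Or.inr ⟨(hcls _ (by simp) x hc).1 hx, hc⟩)
      · exact Or.inr ⟨(hcls _ (by simp) x hc).1 hx, hc⟩
    · rintro ((((hc | hc) | hc) | hc) | hc)
      · rw [show x = 0 from Fin.ext hc, h.orb_to_zero]
        exact ptp_mem
      · exact (hcls _ (by simp) x hc.2).2 hc.1
      · exact (hcls _ (by simp) x hc.2).2 hc.1
      · exact (hcls _ (by simp) x hc.2).2 hc.1
      · exact (hcls _ (by simp) x hc.2).2 hc.1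
  have hcard : (buildP (bit p30) (bit p81) (bit pQ1) (bit pQ2)).card = 112 := by
    rw [← h.ncard_orb ptp, ← Set.ncard_coe_finset]
    congr 1
    ext x
    exact (hS x).symm
  rcases buildP_card _ _ _ _ hcard with ⟨e1, e2, e3, e4⟩ | ⟨e1, e2, e3, e4⟩ | ⟨e1, e2, e3, e4⟩ <;>
    rw [e1, e2, e3, e4] at hS
  · exact Or.inl hS
  · exact Or.inr hS
  · -- the neighbourhood of `0` would be a block
    exfalso
    have hp : ∀ x, Orb G ptp x ↔ x = 0 ∨ (x ∈ Pset ∧ x ≠ ptp) := by
      intro x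
      rw [hS x]
      have hc := allN_iff.1 clique_eq x x.2
      rw [beq_iff_eq] at hc
      have hm : x ∈ buildP true true false false ↔
          ((Nat.beq x 0) || (reachPts p30).contains x || (reachPts p81).contains x) = true := by
        rw [buildP, mem_build]; simp
      rw [hm, hc]
      simp only [Bool.or_eq_true, Bool.and_eq_true, Nat.beq_eq, List.contains_iff_mem,
        Bool.not_eq_true', ← Bool.not_eq_true, mem_Pset, ne_eq, Fin.ext_iff, Fin.val_zero]
      rw [show (ptp : ℕ) = Pl.getD 0 0 from pt_val 0]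
    set Δ : Set (Fin 275) := insert 0 Pset with hΔ
    have hstar : ∀ y ∈ Δ, ∀ z, z ∈ Δ ↔ z = y ∨ Orb G y z := by
      intro y hy z
      rcases Set.mem_insert_iff.1 hy with rfl | hy
      · rw [h.orb_zero]; exact Set.mem_insert_iff
      · obtain ⟨k, hk, rfl⟩ := K_trans_P ptp_mem hy
        obtain ⟨w, rfl⟩ := k.surjective z
        rw [h.orb_smul (h.K_le hk), hp, k.injective.eq_iff, Set.mem_insert_iff]
        have h0 : k w = 0 ↔ w = 0 := by
          conv_lhs => rw [← K_apply_zero hk]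
          exact k.injective.eq_iff
        have hP : k w ∈ Pset ↔ w ∈ Pset := ⟨fun hw => by
          have := K_Pset (K.inv_mem hk) hw; rwa [inv_app] at this, K_Pset hk⟩
        rw [h0, hP]
        constructor
        · rintro (e | e)
          · exact Or.inr (Or.inl e)
          · by_cases hw : w = ptp
            · exact Or.inl hw
            · exact Or.inr (Or.inr ⟨e, hw⟩)
        · rintro (e | e | e)
          · exact Or.inr (e ▸ ptp_mem)
          · exact Or.inl e
          · exact Or.inr e.1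
    haveI : MulAction.IsPretransitive G (Fin 275) := ⟨fun x y => by
      obtain ⟨f, hf, rfl⟩ := h.trans x
      obtain ⟨f', hf', rfl⟩ := h.trans y
      exact ⟨⟨f' * f⁻¹, G.mul_mem hf' (G.inv_mem hf)⟩, by
        show (f' * f⁻¹) (f 0) = f' 0
        rw [Perm.mul_apply, inv_app]⟩⟩
    have hB : MulAction.IsBlock G Δ := by
      rw [MulAction.isBlock_iff_smul_eq_or_disjoint]
      intro g
      by_cases hd : Disjoint (g • Δ) Δ
      · exact Or.inr hd
      left
      obtain ⟨z, hz, hzΔ⟩ := Set.not_disjoint_iff.1 hd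
      obtain ⟨y, hy, rfl⟩ := hz
      ext w
      rw [hstar _ hzΔ w, Set.mem_smul_set_iff_inv_smul_mem, hstar y hy]
      show (g : Perm (Fin 275))⁻¹ w = y ∨ Orb G y ((g : Perm (Fin 275))⁻¹ w) ↔ _
      rw [← h.orb_smul g.2 y, show (g : Perm (Fin 275)) ((g : Perm (Fin 275))⁻¹ w) = w from
        Equiv.apply_symm_apply _ w, Perm.inv_eq_iff_eq]
      exact Iff.rfl
    have hd := hB.ncard_dvd_card ⟨0, Set.mem_insert _ _⟩
    rw [hΔ, Set.ncard_insert_of_notMem zero_notMem_Pset, ncard_Pset, Nat.card_fin] at hd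
    norm_num at hd

end IsExt

theorem cGP_ok : (elM.contains cGP && Nat.beq (getQ cGP 0) (Pl.getD 0 0) &&
    (List.range 112).any fun i => (reachPts pQ1).contains (getQ cGP (Pl.getD i 0))) = true := by
  decide +kernel

theorem nb_disjoint : ((reachPts pQ1).all fun x => !Nat.beq x 0 && !(reachPts p30).contains x &&
    !(reachPts pQ2).contains x) = true := by decide +kernel

theorem notMem_nb2 {x : Fin 275} (hx : (x : ℕ) ∈ reachPts pQ1) : x ∉ nb2 := by
  have h := List.all_eq_true.1 nb_disjoint _ hx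
  simp only [Bool.and_eq_true, Bool.not_eq_true'] at h
  rw [nb2, buildP, mem_build, h.1.1, h.1.2, h.2]
  simp only [Bool.and_false, Bool.false_and, Bool.or_false, Bool.or_self, Bool.false_eq_true,
    not_false_iff]

theorem model_p {M : Subgroup (Perm (Fin 275))} (hM : IsModel M) :
    ∀ x, Orb M ptp x ↔ x ∈ nb1 := by
  have hE := IsExt.isExt_model hM
  refine hE.cases_p.resolve_right fun h2 => ?_
  have h := cGP_ok
  simp only [Bool.and_eq_true, List.contains_iff_mem, Nat.beq_eq, List.any_eq_true,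
    List.mem_range] at h
  obtain ⟨⟨hc, h0⟩, i, hi, hQ⟩ := h
  obtain ⟨g, hg, hr⟩ := inM_elM hM cGP hc
  have hg0 : g 0 = ptp := Fin.ext (by rw [hr, pt_val]; exact h0)
  have hval : (g (pt ⟨i, hi⟩) : ℕ) = getQ cGP (Pl.getD i 0) := by rw [hr, pt_val]
  have horb : Orb M ptp (g (pt ⟨i, hi⟩)) := (hE.orb_iff hg hg0).2 (by rw [inv_app]; exact ⟨_, rfl⟩)
  exact notMem_nb2 (hval ▸ hQ) ((h2 _).1 horb)

theorem adj_zero {M : Subgroup (Perm (Fin 275))} (hM : IsModel M) (y : Fin 112) :
    adjB (0 : Fin 112) y = true ↔ Orb M ptp (pt y) := by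
  have h : allN 112 (fun y => adjB 0 y == (Nat.beq (Pl.getD y 0) 0 ||
      (reachPts p30).contains (Pl.getD y 0) || (reachPts pQ1).contains (Pl.getD y 0))) = true := by
    decide +kernel
  have hy := allN_iff.1 h y y.2
  rw [beq_iff_eq] at hy
  rw [model_p hM, Fin.val_zero, hy]
  rw [nb1, buildP, mem_build]
  simp [pt_val, Fin.ext_iff]

theorem adj_iff {M : Subgroup (Perm (Fin 275))} (hM : IsModel M) (x y : Fin 112) :
    adjB x y = true ↔ Orb M (pt x) (pt y) := by
  obtain ⟨σ, hσ, rfl⟩ := R_trans 0 x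
  obtain ⟨k, hk, hc⟩ := exists_compat' hσ
  obtain ⟨z, rfl⟩ := σ.surjective y
  rw [mem_AutA.1 (R_le_AutA hσ), adj_zero hM, ← hc, ← hc,
    (IsExt.isExt_model hM).orb_smul (K_le_model hM hk)]

theorem hemi_iff {M : Subgroup (Perm (Fin 275))} (hM : IsModel M) {x : Fin 275} (hx : x ∈ Qset)
    (i : Fin 112) : i ∈ hemiSet x ↔ Orb M x (pt i) := by
  have hE := IsExt.isExt_model hM
  have h : (elM.contains cGQ && Nat.beq (getQ cGQ 0) ptQ &&
      allN 112 fun i => (Pl.map (getQ cGQ)).contains (Pl.getD i 0) == sol1.testBit i) = true := by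
    decide +kernel
  simp only [Bool.and_eq_true, List.contains_iff_mem, Nat.beq_eq, allN_iff, beq_iff_eq] at h
  obtain ⟨⟨hc, h0⟩, hbit⟩ := h
  obtain ⟨g, hg, hr⟩ := inM_elM hM cGQ hc
  have hg0 : g 0 = ptq := Fin.ext (by rw [hr, ptq_val]; exact h0)
  have base : ∀ j : Fin 112, j ∈ hemiSet ptq ↔ Orb M ptq (pt j) := by
    intro j
    rw [hemiSet_ptq, mem_mSet, ← hbit j j.2, hE.orb_iff hg hg0, List.contains_iff_mem, List.mem_map]
    constructor
    · rintro ⟨z, hz, e⟩
      have hlt : z < 275 := by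
        obtain ⟨n, hn, rfl⟩ := List.mem_iff_getElem.1 hz
        have hlen : Pl.length = 112 := by decide +kernel
        have := allN_iff.1 Pl_ok n (hlen ▸ hn)
        rw [Bool.and_eq_true, List.getD_eq_getElem _ _ hn] at this
        exact Nat.le_of_ble_eq_true this.1
      have : g ⟨z, hlt⟩ = pt j := Fin.ext (by rw [hr, pt_val]; exact e)
      rw [← this, inv_app]
      exact mem_Pset.2 hz
    · intro hj
      refine ⟨_, mem_Pset.1 hj, ?_⟩
      rw [← hr, show g (g⁻¹ (pt j)) = pt j from g.apply_symm_apply _, pt_val]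
  obtain ⟨k, hk, rfl⟩ := K_trans_Q ptq_mem hx
  obtain ⟨σ, -, hcp⟩ := exists_compat hk
  obtain ⟨j, rfl⟩ := σ.surjective i
  rw [hemiSet_smul hk σ hcp _ ptq_mem, ← hcp, hE.orb_smul (K_le_model hM hk), ← base]
  exact Finset.smul_mem_smul_finset_iff σ

/-- two extensions with the same neighbours of `p` have the same orbital relation -/
theorem orb_agree {G M : Subgroup (Perm (Fin 275))} (hG : IsExt G) (hM : IsExt M)
    (hp : ∀ x, Orb G ptp x ↔ Orb M ptp x) (i j : Fin 275) : Orb G i j ↔ Orb M i j := by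
  classical
  have hP : ∀ x ∈ Pset, ∀ j, Orb G x j ↔ Orb M x j := by
    intro x hx j
    obtain ⟨k, hk, rfl⟩ := K_trans_P ptp_mem hx
    obtain ⟨w, rfl⟩ := k.surjective j
    rw [hG.orb_smul (hG.K_le hk), hM.orb_smul (hM.K_le hk), hp]
  have hq : ∀ x, Orb G ptq x ↔ Orb M ptq x := by
    let bit : Subgroup (Perm (Fin 275)) → ℕ × List (ℕ × ℕ × ℕ) → Bool := fun H o =>
      decide (∃ x : Fin 275, (x : ℕ) ∈ reachPts o ∧ Orb H ptq x)
    have hcls : ∀ {H : Subgroup (Perm (Fin 275))}, IsExt H → ∀ o ∈ [qP1, qP2, qQ56, qQ105],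
        ∀ x : Fin 275, (x : ℕ) ∈ reachPts o → (Orb H ptq x ↔ bit H o = true) := by
      intro H hH o ho x hx
      refine ⟨fun hxo => decide_eq_true ⟨x, hx, hxo⟩, fun hb => ?_⟩
      obtain ⟨y, hy, hyo⟩ := of_decide_eq_true hb
      exact reach_subset inM_gensQ (List.all_eq_true.1 classQ_sub o ho)
        (fun σ hσ z hz => hH.orb_stab_inv hσ hz) y x hy hx hyo
    have hS : ∀ {H : Subgroup (Perm (Fin 275))}, IsExt H → ∀ x, Orb H ptq x ↔
        x ∈ buildQ (bit H qP1) (bit H qP2) (bit H qQ56) (bit H qQ105) := by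
      intro H hH x
      simp only [buildQ, build, Finset.mem_filter, Finset.mem_univ, true_and, Bool.or_eq_true,
        Bool.and_eq_true, List.contains_iff_mem, Bool.false_and, Bool.false_eq_true, false_or]
      constructor
      · intro hx
        have hc := allN_iff.1 coverQ x x.2
        simp only [Bool.or_eq_true, List.contains_iff_mem, Nat.beq_eq] at hc
        rcases hc with ((((hc | hc) | hc) | hc) | hc) | hc
        · rw [show x = 0 from Fin.ext hc, hH.orb_to_zero] at hx
          exact absurd hx ptq_notMem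
        · exact absurd ((show x = ptq from Fin.ext (hc.trans ptq_val.symm)) ▸ hx) (hH.orb_irrefl _)
        · exact Or.inl (Or.inl (Or.inl ⟨(hcls hH _ (by simp) x hc).1 hx, hc⟩))
        · exact Or.inl (Or.inl (Or.inr ⟨(hcls hH _ (by simp) x hc).1 hx, hc⟩))
        · exact Or.inl (Or.inr ⟨(hcls hH _ (by simp) x hc).1 hx, hc⟩)
        · exact Or.inr ⟨(hcls hH _ (by simp) x hc).1 hx, hc⟩
      · rintro (((hc | hc) | hc) | hc) <;> exact (hcls hH _ (by simp) x hc.2).2 hc.1
    have hcard : ∀ {H : Subgroup (Perm (Fin 275))}, IsExt H →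
        (buildQ (bit H qP1) (bit H qP2) (bit H qQ56) (bit H qQ105)).card = 112 := by
      intro H hH
      rw [← hH.ncard_orb ptq, ← Set.ncard_coe_finset]
      congr 1
      ext x
      exact (hS hH x).symm
    have hsameP : ∀ o ∈ [qP1, qP2], bit G o = bit M o := by
      intro o ho
      have hPo : ((reachPts qP1).all Pl.contains && (reachPts qP2).all Pl.contains) = true := by
        decide +kernel
      simp only [Bool.and_eq_true, List.all_eq_true, List.contains_iff_mem] at hPo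
      refine decide_eq_decide.2 (exists_congr fun x => and_congr_right fun hx => ?_)
      have hxP : x ∈ Pset := mem_Pset.2 (by
        simp only [List.mem_cons, List.not_mem_nil, or_false] at ho
        rcases ho with rfl | rfl
        · exact hPo.1 _ hx
        · exact hPo.2 _ hx)
      rw [hG.orb_comm, hM.orb_comm, hP x hxP]
    intro x
    have e1 := hsameP qP1 (by simp)
    have e2 := hsameP qP2 (by simp)
    obtain ⟨e3, e4⟩ := buildQ_card _ _ _ _ _ _ (hcard hG) (by rw [e1, e2]; exact hcard hM)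
    rw [hS hG, hS hM, e1, e2, e3, e4]
  by_cases hi0 : i = 0
  · rw [hi0, hG.orb_zero, hM.orb_zero]
  by_cases hiP : i ∈ Pset
  · exact hP i hiP j
  obtain ⟨k, hk, rfl⟩ := K_trans_Q ptq_mem (mem_Qset_iff.2 ⟨hi0, hiP⟩)
  obtain ⟨w, rfl⟩ := k.surjective j
  rw [hG.orb_smul (hG.K_le hk), hM.orb_smul (hM.K_le hk), hq]

/-- automorphisms of the graph fixing `0` normalise the point stabiliser -/
theorem normalises {M : Subgroup (Perm (Fin 275))} (hM : IsModel M) {u : Perm (Fin 275)}
    (h0 : u 0 = 0) (hu : ∀ i j, Orb M (u i) (u j) ↔ Orb M i j) :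
    u ∈ Subgroup.normalizer (K : Set (Perm (Fin 275))) := by
  have hE := IsExt.isExt_model hM
  have hP : ∀ i, u (pt i) ∈ Pset := fun i => by
    rw [← hE.orb_zero, ← h0, hu, hE.orb_zero]
    exact ⟨i, rfl⟩
  choose f hf using hP
  have hinj : Function.Injective f := fun a b e => pt_inj (u.injective (by rw [← hf, e, hf]))
  set s : Perm (Fin 112) := Equiv.ofBijective f (Finite.injective_iff_bijective.1 hinj)
  have hus : Compat u s := fun i => (hf i).symm
  have hs : s ∈ AutA := fun x y => Bool.eq_iff_iff.2 (by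
    rw [adj_iff hM, adj_iff hM, ← hus, ← hus, hu])
  refine mem_normalizer_closure fun k hk => ?_
  have hk' : k ∈ K := Subgroup.subset_closure hk
  obtain ⟨σ, hσ, hc⟩ := exists_compat hk'
  have hconj := ((Subgroup.mem_normalizer_iff.1 (AutA_le_normalizer hs)) σ).1 hσ
  obtain ⟨k', hk'', hc'⟩ := exists_compat' hconj
  have hv : Compat (u * k * u⁻¹) (s * σ * s⁻¹) := (hus.mul hc).mul hus.inv
  set z := k'⁻¹ * (u * k * u⁻¹) with hz
  have hzc : Compat z 1 := by
    have := hc'.inv.mul hv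
    rwa [inv_mul_cancel] at this
  have hz0 : z 0 = 0 := by
    rw [hz, Perm.mul_apply, Perm.mul_apply, Perm.mul_apply,
      show u⁻¹ 0 = 0 by conv_lhs => rw [← h0, inv_app], K_apply_zero hk', h0,
      K_apply_zero (K.inv_mem hk'')]
  have hzE : ∀ i j, Orb M (z i) (z j) ↔ Orb M i j := by
    intro i j
    rw [hz]
    simp only [Perm.mul_apply]
    rw [hE.orb_smul (M.inv_mem (K_le_model hM hk'')), hu, hE.orb_smul (K_le_model hM hk')]
    conv_rhs => rw [← u.apply_symm_apply i, ← u.apply_symm_apply j, hu]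
    rfl
  have hz1 : z = 1 := by
    refine Equiv.ext fun x => ?_
    rw [Perm.one_apply]
    by_cases hx0 : x = 0
    · rw [hx0, hz0]
    by_cases hxP : x ∈ Pset
    · obtain ⟨i, rfl⟩ := hxP
      exact hzc i
    have hxQ : x ∈ Qset := mem_Qset_iff.2 ⟨hx0, hxP⟩
    have hzQ : z x ∈ Qset := mem_Qset_iff.2 ⟨fun e => hx0 (z.injective (e.trans hz0.symm)),
      fun ⟨i, hi⟩ => hxP ⟨i, z.injective ((hzc i).trans hi)⟩⟩
    refine hemiSet_inj hzQ hxQ (Finset.ext fun i => ?_)
    rw [hemi_iff hM hzQ, hemi_iff hM hxQ]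
    have := hzE x (pt i)
    rwa [show z (pt i) = pt i from hzc i] at this
  have e : u * k * u⁻¹ = k' := (inv_mul_eq_one.1 hz1).symm
  rw [e]
  exact hk''

theorem card_ext {G : Subgroup (Perm (Fin 275))} (hG : IsExt G) :
    Nat.card G = 275 * 3265920 := by
  have h := card_inf_stab G (0 : Fin 275)
  have ho : MulAction.orbit G (0 : Fin 275) = Set.univ := Set.eq_univ_of_forall fun j => by
    obtain ⟨σ, hσ, e⟩ := hG.trans j
    exact ⟨⟨σ, hσ⟩, e⟩
  rw [hG.stab, natCard_K, ho, Set.ncard_univ, Nat.card_fin] at h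
  omega

theorem eq_model {G M : Subgroup (Perm (Fin 275))} (hG : IsExt G) (hM : IsModel M)
    (hp : ∀ x, Orb G ptp x ↔ x ∈ nb1) : G = M := by
  have hE := IsExt.isExt_model hM
  have hag := orb_agree hG hE fun x => (hp x).trans (model_p hM x).symm
  have hGp : ∀ g ∈ G, ∀ i j, Orb M (g i) (g j) ↔ Orb M i j := fun g hg i j => by
    rw [← hag, ← hag, hG.orb_smul hg]
  have hc := cGP_ok
  simp only [Bool.and_eq_true, List.contains_iff_mem, Nat.beq_eq] at hc
  obtain ⟨m, hm, hmr⟩ := inM_elM hM cGP hc.1.1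
  have hm0 : m 0 = ptp := Fin.ext (by rw [hmr, pt_val]; exact hc.1.2)
  obtain ⟨g, hg, hg0⟩ := hG.trans ptp
  have hw := normalises hM (u := g⁻¹ * m)
    (by rw [Perm.mul_apply, hm0, ← hg0, inv_app]) fun i j => by
    rw [Perm.mul_apply, Perm.mul_apply, hGp _ (G.inv_mem hg), hE.orb_smul hm]
  have hconj : ∀ k ∈ K, m * k * m⁻¹ ∈ G ⊓ M := fun k hk => by
    refine ⟨?_, M.mul_mem (M.mul_mem hm (K_le_model hM hk)) (M.inv_mem hm)⟩
    rw [show m * k * m⁻¹ = g * ((g⁻¹ * m) * k * (g⁻¹ * m)⁻¹) * g⁻¹ by simp [mul_assoc]]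
    exact G.mul_mem (G.mul_mem hg (hG.K_le (((Subgroup.mem_normalizer_iff.1 hw) k).1 hk)))
      (G.inv_mem hg)
  have hjok : allN 275 (fun i => Nat.beq (getQ jA (getQ cGP i)) (getQ cGP (getQ kA i)) &&
      Nat.beq (getQ jB (getQ cGP i)) (getQ cGP (getQ kB i))) = true := by decide +kernel
  simp only [allN_iff, Bool.and_eq_true, Nat.beq_eq] at hjok
  have hrep : PermOut.Rep (m * permOf 275 kA * m⁻¹) jA ∧
      PermOut.Rep (m * permOf 275 kB * m⁻¹) jB := by
    constructor <;> intro i <;> obtain ⟨x, rfl⟩ := m.surjective i <;>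
      rw [Perm.mul_apply, Perm.mul_apply, inv_app, hmr, hmr]
    · rw [rep_kA]; exact (hjok x x.2).1.symm
    · rw [rep_kB]; exact (hjok x x.2).2.symm
  have hcs : ∀ c ∈ [kA, kB, jA, jB], InM (G ⊓ M) c := by
    intro c hcm
    simp only [List.mem_cons, List.not_mem_nil, or_false] at hcm
    have hKle : K ≤ G ⊓ M := le_inf hG.K_le (K_le_model hM)
    rcases hcm with rfl | rfl | rfl | rfl
    · exact inM_mono inM_kA hKle
    · exact inM_mono inM_kB hKle
    · exact ⟨_, hconj _ inM_kA.mem, hrep.1⟩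
    · exact ⟨_, hconj _ inM_kB.mem, hrep.2⟩
  have hJ : (reachOK 275 [kA, kB, jA, jB] (0, reachJ) &&
      allN 275 fun i => (reachPts (0, reachJ)).contains i) = true := by decide +kernel
  simp only [Bool.and_eq_true, allN_iff, List.contains_iff_mem] at hJ
  have hext : IsExt (G ⊓ M) := by
    refine ⟨fun i => reach_spec hcs hJ.1 0 i (hJ.2 0 (by norm_num)) (hJ.2 i i.2), ?_⟩
    rw [inf_assoc, hE.stab]
    exact inf_eq_right.2 hG.K_le
  have h1 : G ⊓ M = G :=
    Subgroup.eq_of_le_of_card_ge inf_le_left (by rw [card_ext hG, card_ext hext])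
  have h2 : G ⊓ M = M :=
    Subgroup.eq_of_le_of_card_ge inf_le_right (by rw [card_ext hE, card_ext hext])
  exact h1.symm.trans h2

theorem sigma_ok : (invOK 275 cS cSi && conjOK 275 cS kA sA && conjOK 275 cS kB sB &&
    sA.all elK.contains && sB.all elK.contains && Nat.beq (getQ cS 0) 0 &&
    Nat.beq (getQ cS (Pl.getD 0 0)) (Pl.getD 0 0) && Pl.all (fun x => Pl.contains (getQ cS x)) &&
    (reachPts pQ2).any fun x => Nat.blt x 275 && (reachPts pQ1).contains (getQ cS x)) = true := by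
  decide +kernel

/-- a transitive group on 275 points with the point stabiliser of the model is McLaughlin's group -/
theorem equiv_mcl {G : Subgroup (Perm (Fin 275))} (hG : IsExt G) :
    Nonempty (G ≃* Cfsg.Spor.McL) := by
  obtain ⟨M, hM⟩ := exists_isModel
  obtain ⟨e⟩ := hM.1
  rcases hG.cases_p with hp | hp
  · rw [eq_model hG hM hp]
    exact ⟨e.symm⟩
  have h := sigma_ok
  simp only [Bool.and_eq_true, Nat.beq_eq, List.all_eq_true, List.contains_iff_mem,
    List.any_eq_true] at h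
  obtain ⟨⟨⟨⟨⟨⟨⟨⟨hi, hA⟩, hB⟩, hwA⟩, hwB⟩, h0⟩, hpp⟩, hPP⟩, x, hx, hx275, hxQ1⟩ := h
  obtain ⟨σ, hσ, -⟩ := exists_rep hi
  have hn : σ ∈ Subgroup.normalizer (K : Set (Perm (Fin 275))) := mem_normalizer_closure fun y hy => by
    simp only [Set.mem_insert_iff, Set.mem_singleton_iff] at hy
    rcases hy with rfl | rfl
    · exact conj_mem hσ rep_kA (fun a ha => inM_elK a (hwA a ha)) hA
    · exact conj_mem hσ rep_kB (fun a ha => inM_elK a (hwB a ha)) hB
  have hσ0 : σ 0 = 0 := Fin.ext ((hσ 0).trans h0)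
  set G' := G.map (MulAut.conj σ).toMonoidHom with hG'def
  have hG' : IsExt G' := by
    refine ⟨fun i => ?_, le_antisymm ?_ (le_inf (fun k hk => ?_) K_fix_zero)⟩
    · obtain ⟨g, hg, e⟩ := hG.trans (σ⁻¹ i)
      refine ⟨σ * g * σ⁻¹, ⟨g, hg, rfl⟩, ?_⟩
      rw [Perm.mul_apply, Perm.mul_apply, show σ⁻¹ 0 = 0 by conv_lhs => rw [← hσ0, inv_app], e]
      exact σ.apply_symm_apply i
    · rintro _ ⟨⟨g, hg, rfl⟩, hfix⟩
      have e : (σ * g * σ⁻¹) 0 = 0 := hfix
      rw [Perm.mul_apply, Perm.mul_apply, show σ⁻¹ 0 = 0 by conv_lhs => rw [← hσ0, inv_app]] at e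
      have hgK := hG.mem_K hg (σ.injective (e.trans hσ0.symm))
      exact ((Subgroup.mem_normalizer_iff.1 hn) g).1 hgK
    · exact ⟨σ⁻¹ * k * σ, hG.K_le (((Subgroup.mem_normalizer_iff''.1 hn) k).1 hk),
        by simp [mul_assoc]⟩
  have hlt : x < 275 := Nat.le_of_ble_eq_true hx275
  have horb : Orb G ptp ⟨x, hlt⟩ := (hp _).2 (by rw [nb2, buildP, mem_build]; simp [hx])
  obtain ⟨g, hg, hg0, hgP⟩ := horb
  have hσp : σ ptp = ptp := Fin.ext (by rw [hσ, pt_val]; exact hpp)
  have horb' : Orb G' ptp (σ ⟨x, hlt⟩) := by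
    refine ⟨σ * g * σ⁻¹, ⟨g, hg, rfl⟩, ?_, ?_⟩
    · rw [Perm.mul_apply, Perm.mul_apply, show σ⁻¹ 0 = 0 by conv_lhs => rw [← hσ0, inv_app], hg0, hσp]
    · rw [mul_inv_rev, mul_inv_rev, inv_inv, Perm.mul_apply, Perm.mul_apply, inv_app]
      exact mem_Pset.2 (by rw [hσ]; exact hPP _ (mem_Pset.1 hgP))
  have hp' : ∀ y, Orb G' ptp y ↔ y ∈ nb1 := hG'.cases_p.resolve_right fun h2 =>
    notMem_nb2 (x := σ ⟨x, hlt⟩) (by rw [hσ]; exact hxQ1) ((h2 _).1 horb')
  exact ⟨((G.equivMapOfInjective _ (MulAut.conj σ).injective).trans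
    (MulEquiv.subgroupCongr (eq_model hG' hM hp'))).trans e.symm⟩

end CfsgLib.Spor.McLRank3
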