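import Cfsg.Agent.Lib.Spor.McLRank3.Basic
import Cfsg.Agent.Lib.Spor.McLRank3.DataR
import Cfsg.Agent.Lib.Spor.McLUnitary.Unitary
import Mathlib.FieldTheory.Finite.GaloisField
import Mathlib.GroupTheory.Sylow

/-!
The group of degree 112 isomorphic to `PSU₄(3)`: its subgroups of index 112 are point stabilisers.
-/

set_option autoImplicit false
set_option maxRecDepth 100000

open scoped Pointwise

namespace CfsgLib.Spor.McLRank3

open Equiv CfsgLib.Spor.PermOut

/-- the group of degree 112 -/
abbrev R : Subgroup (Perm (Fin 112)) := Subgroup.closure {permOf 112 cA, permOf 112 cB}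

/-- all codes of the program of degree 112 -/
def elR : List ℕ := [cId, cA, cAi, cB, cBi] ++ rowsR.map Prod.fst

theorem inv_cA : invOK 112 cA cAi = true := by decide +kernel

theorem inv_cB : invOK 112 cB cBi = true := by decide +kernel

theorem rep_cA : PermOut.Rep (permOf 112 cA) cA := by
  obtain ⟨σ, hσ, -⟩ := exists_rep inv_cA
  rwa [hσ.permOf_eq]

theorem rep_cB : PermOut.Rep (permOf 112 cB) cB := by
  obtain ⟨σ, hσ, -⟩ := exists_rep inv_cB
  rwa [hσ.permOf_eq]

theorem inM_cA : InM R cA := ⟨_, Subgroup.subset_closure (by simp), rep_cA⟩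

theorem inM_cB : InM R cB := ⟨_, Subgroup.subset_closure (by simp), rep_cB⟩

theorem inM_elR : ∀ a ∈ elR, InM R a := by
  refine inM_rows (M := R) (d := cId) [cId, cA, cAi, cB, cBi] rowsR (inM_one (by decide +kernel))
    (fun a ha => ?_) (by decide +kernel)
  simp only [List.mem_cons, List.not_mem_nil, or_false] at ha
  rcases ha with rfl | rfl | rfl | rfl | rfl
  · exact inM_one (by decide +kernel)
  · exact inM_cA
  · exact inM_inv inM_cA inv_cA
  · exact inM_cB
  · exact inM_inv inM_cB inv_cB

/-- code of the relabelling -/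
def cPim : ℕ := (pim.zipIdx.map fun x => x.1 <<< (9 * x.2)).sum

/-- code of the inverse relabelling -/
def cPimI : ℕ := (pimInv.zipIdx.map fun x => x.1 <<< (9 * x.2)).sum

theorem inv_pim : invOK 112 cPim cPimI = true := by decide +kernel

theorem exists_relabel : ∃ π : Perm (Fin 112),
    π * McLUnitary.pA * π⁻¹ = permOf 112 cA ∧ π * McLUnitary.pB * π⁻¹ = permOf 112 cB := by
  obtain ⟨π, hπ, -⟩ := exists_rep inv_pim
  have hA : allN 112 (fun i => Nat.beq (getQ cA (getQ cPim i))
      (getQ cPim (McLUnitary.permA.getD i 0))) = true := by decide +kernel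
  have hB : allN 112 (fun i => Nat.beq (getQ cB (getQ cPim i))
      (getQ cPim (McLUnitary.permB.getD i 0))) = true := by decide +kernel
  simp only [allN_iff, Nat.beq_eq] at hA hB
  refine ⟨π, mul_inv_eq_iff_eq_mul.2 (Equiv.ext fun i => Fin.ext ?_),
    mul_inv_eq_iff_eq_mul.2 (Equiv.ext fun i => Fin.ext ?_)⟩
  · rw [Perm.mul_apply, Perm.mul_apply, rep_cA, hπ, hπ, hA i i.2, McLUnitary.pA_val]
  · rw [Perm.mul_apply, Perm.mul_apply, rep_cB, hπ, hπ, hB i i.2, McLUnitary.pB_val]

theorem model_equiv : Nonempty (McLUnitary.model ≃* R) := by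
  obtain ⟨π, hA, hB⟩ := exists_relabel
  have he : McLUnitary.model.map (MulAut.conj π).toMonoidHom = R := by
    rw [MonoidHom.map_closure, Set.image_pair]
    show Subgroup.closure {π * McLUnitary.pA * π⁻¹, π * McLUnitary.pB * π⁻¹} = _
    rw [hA, hB]
  exact ⟨(McLUnitary.model.equivMapOfInjective _ (MulAut.conj π).injective).trans
    (MulEquiv.subgroupCongr he)⟩

theorem psu_equiv_R {F : Type} [Field F] [Fintype F] (hF : Fintype.card F = 9) :
    Nonempty (Cfsg.PSU 4 F 3 ≃* R) := by
  obtain ⟨e⟩ := McLUnitary.psu_equiv_model hF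
  obtain ⟨e'⟩ := model_equiv
  exact ⟨e.trans e'⟩

theorem natCard_R : Nat.card R = 3265920 := by
  haveI : Fact (Nat.Prime 3) := ⟨Nat.prime_three⟩
  letI := Fintype.ofFinite (GaloisField 3 2)
  have h9 : Fintype.card (GaloisField 3 2) = 9 := by
    rw [← Nat.card_eq_fintype_card, GaloisField.card 3 2 (by norm_num)]; norm_num
  obtain ⟨e⟩ := psu_equiv_R h9
  rw [← Nat.card_congr e.toEquiv, McLUnitary.card_PSU_four_three h9]

theorem reachR_ok : reachOK 112 [cA, cB] (0, reachR) = true := by decide +kernel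

theorem reachR_all : allN 112 (fun i => (reachPts (0, reachR)).contains i) = true := by
  decide +kernel

theorem R_trans (i j : Fin 112) : ∃ σ ∈ R, σ i = j := by
  have h := allN_iff.1 reachR_all
  refine reach_spec (fun c hc => ?_) reachR_ok i j (List.contains_iff_mem.1 (h i i.2))
    (List.contains_iff_mem.1 (h j j.2))
  simp only [List.mem_cons, List.not_mem_nil, or_false] at hc
  rcases hc with rfl | rfl
  · exact inM_cA
  · exact inM_cB

/-- the stabiliser of the point `0` -/
abbrev R0 : Subgroup (Perm (Fin 112)) := R ⊓ MulAction.stabilizer (Perm (Fin 112)) (0 : Fin 112)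

theorem card_stab (y : Fin 112) :
    Nat.card ↥(R ⊓ MulAction.stabilizer (Perm (Fin 112)) y) = 29160 := by
  have h := card_inf_stab R y
  have ho : MulAction.orbit R y = Set.univ := Set.eq_univ_of_forall fun j => by
    obtain ⟨σ, hσ, e⟩ := R_trans y j
    exact ⟨⟨σ, hσ⟩, e⟩
  rw [ho, Set.ncard_univ, Nat.card_fin, natCard_R] at h
  omega

/-- the codes of the levels and the further elements -/
def els : List ℕ := (tailLev.flatMap fun l => l.2.2) ++ extraEls

theorem inM_els : ∀ c ∈ els, InM R0 c := by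
  have h : (els.all fun c => elR.contains c && Nat.beq (getQ c 0) 0) = true := by decide +kernel
  intro c hc
  have h' := List.all_eq_true.1 h c hc
  rw [Bool.and_eq_true, List.contains_iff_mem, Nat.beq_eq] at h'
  obtain ⟨σ, hσ, hr⟩ := inM_elR c h'.1
  exact ⟨σ, ⟨hσ, Fin.ext ((hr 0).trans h'.2)⟩, hr⟩

theorem tail_ok : levOK 112 cU tailLev [] = true := by decide +kernel

theorem tail_inM : ∀ l ∈ tailLev, ∀ t ∈ l.2.2, InM R0 t := fun l hl t ht =>
  inM_els t (List.mem_append_left _ (List.mem_flatMap.2 ⟨l, hl, ht⟩))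

theorem tail_card : (tailLev.map fun l => l.2.2.length).prod = Nat.card R0 := by
  rw [card_stab 0]; decide +kernel

theorem elts_le {N : Subgroup (Perm (Fin 112))} : ∀ (lev : List Lev),
    (∀ l ∈ lev, ∀ t ∈ l.2.2, permOf 112 t ∈ N) → ∀ g ∈ elts 112 lev, g ∈ N
  | [], _, g, hg => by
    rw [elts, Finset.mem_singleton] at hg
    exact hg ▸ N.one_mem
  | l :: r, h, g, hg => by
    obtain ⟨t, ht, s, hs, rfl⟩ := Finset.mem_image₂.1 hg
    exact N.mul_mem (h l List.mem_cons_self t (List.mem_toFinset.1 ht))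
      (elts_le r (fun l' hl' => h l' (List.mem_cons_of_mem _ hl')) s hs)

theorem R0_le {N : Subgroup (Perm (Fin 112))}
    (h : ∀ t ∈ tailLev.flatMap (fun l => l.2.2), permOf 112 t ∈ N) : R0 ≤ N := fun _ hg =>
  elts_le tailLev (fun l hl t ht => h t (List.mem_flatMap.2 ⟨l, hl, ht⟩)) _
    (elts_eq tail_ok tail_inM tail_card hg)

/-- the radical of the stabiliser of a point -/
abbrev W : Subgroup (Perm (Fin 112)) := Subgroup.closure {σ | ∃ c ∈ cW, σ = permOf 112 c}

theorem inM_cW : ∀ c ∈ cW, InM R0 c := by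
  have h : (cW.all fun c => elR.contains c && Nat.beq (getQ c 0) 0) = true := by decide +kernel
  intro c hc
  have h' := List.all_eq_true.1 h c hc
  rw [Bool.and_eq_true, List.contains_iff_mem, Nat.beq_eq] at h'
  obtain ⟨σ, hσ, hr⟩ := inM_elR c h'.1
  exact ⟨σ, ⟨hσ, Fin.ext ((hr 0).trans h'.2)⟩, hr⟩

theorem inM_W : ∀ c ∈ cW, InM W c := fun c hc =>
  ⟨_, Subgroup.subset_closure ⟨c, hc, rfl⟩, (inM_cW c hc).rep⟩

theorem W_le_R0 : W ≤ R0 := by
  rw [Subgroup.closure_le]
  rintro _ ⟨c, hc, rfl⟩
  exact (inM_cW c hc).mem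

theorem R0_le_normalizer : R0 ≤ Subgroup.normalizer (W : Set (Perm (Fin 112))) := by
  have hchk : ((tailLev.flatMap fun l => l.2.2).zip wConj).all (fun p =>
      (cW.zip p.2).all fun q => conjOK 112 p.1 q.1 (q.2.map fun i => cW.getD i 0) &&
        q.2.all (fun i => Nat.blt i cW.length)) = true := by decide +kernel
  have hlen : (tailLev.flatMap fun l => l.2.2).length = wConj.length ∧
      wConj.all (fun w => Nat.beq w.length cW.length) = true := by decide +kernel
  refine R0_le fun t ht => mem_normalizer_closure ?_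
  rintro _ ⟨c, hc, rfl⟩
  obtain ⟨i, hi, hti⟩ := List.mem_iff_getElem.1 ht
  obtain ⟨j, hj, hcj⟩ := List.mem_iff_getElem.1 hc
  have hi' : i < wConj.length := hlen.1 ▸ hi
  have hj' : j < wConj[i].length := by
    have hl := Nat.eq_of_beq_eq_true (List.all_eq_true.1 hlen.2 _ (List.getElem_mem hi'))
    omega
  have h1 := List.all_eq_true.1 hchk (t, wConj[i]) (List.mem_iff_getElem.2
    ⟨i, by rw [List.length_zip]; omega, by simp [hti]⟩)
  have h2 := List.all_eq_true.1 h1 (c, wConj[i][j]) (List.mem_iff_getElem.2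
    ⟨j, by rw [List.length_zip]; exact lt_min hj hj', by simp [hcj]⟩)
  simp only [Bool.and_eq_true, List.all_eq_true, Nat.blt_eq] at h2
  refine conj_mem (tail_inM' t ht).rep (inM_cW c hc).rep (fun a ha => ?_) h2.1
  obtain ⟨k, hk, rfl⟩ := List.mem_map.1 ha
  rw [List.getD_eq_getElem _ _ (h2.2 k hk)]
  exact inM_W _ (List.getElem_mem _)
where
  tail_inM' (t : ℕ) (ht : t ∈ tailLev.flatMap fun l => l.2.2) : InM R0 t := by
    obtain ⟨l, hl, ht⟩ := List.mem_flatMap.1 ht
    exact tail_inM l hl t ht

theorem W_three : IsPGroup 3 W := by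
  have hchk : (cW.all fun c => allN 112 (fun i => Nat.beq (getQ c (getQ c (getQ c i))) i) &&
      cW.all fun d => allN 112 fun i => Nat.beq (getQ c (getQ d i)) (getQ d (getQ c i))) = true := by
    decide +kernel
  simp only [List.all_eq_true, Bool.and_eq_true, allN_iff, Nat.beq_eq] at hchk
  have hcomm : ∀ x ∈ W, ∀ y ∈ W, Commute x y := by
    intro x hx y hy
    have h1 : W ≤ Subgroup.centralizer {σ | ∃ c ∈ cW, σ = permOf 112 c} := by
      rw [Subgroup.closure_le]
      rintro _ ⟨c, hc, rfl⟩
      rintro _ ⟨d, hd, rfl⟩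
      refine Equiv.ext fun i => Fin.ext ?_
      rw [Perm.mul_apply, Perm.mul_apply, (inM_cW d hd).rep, (inM_cW c hc).rep,
        (inM_cW c hc).rep, (inM_cW d hd).rep]
      exact (hchk d hd).2 c hc i i.2
    rw [← Subgroup.centralizer_closure] at h1
    exact (h1 hy x hx)
  have h3 : ∀ x ∈ W, x ^ 3 = 1 := by
    intro x hx
    induction hx using Subgroup.closure_induction with
    | mem x hx =>
      obtain ⟨c, hc, rfl⟩ := hx
      refine Equiv.ext fun i => Fin.ext ?_
      rw [pow_succ, pow_two, Perm.mul_apply, Perm.mul_apply, (inM_cW c hc).rep,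
        (inM_cW c hc).rep, (inM_cW c hc).rep]
      exact (hchk c hc).1 i i.2
    | one => simp
    | mul x y hx hy ex ey => rw [(hcomm x hx y hy).mul_pow, ex, ey, one_mul]
    | inv x hx ex => rw [inv_pow, ex, inv_one]
  exact fun g => ⟨1, Subtype.ext (h3 g g.2)⟩

/-- a subgroup of the stabiliser of order `729` contains the radical -/
theorem W_le {S : Subgroup (Perm (Fin 112))} (hS : S ≤ R0) (hc : Nat.card S = 729) : W ≤ S := by
  haveI : Fact (Nat.Prime 3) := ⟨Nat.prime_three⟩
  have hp : IsPGroup 3 (W ⊔ S : Subgroup (Perm (Fin 112))) :=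
    W_three.to_sup_of_normal_left' (IsPGroup.of_card (n := 6) (by rw [hc]; norm_num))
      (hS.trans R0_le_normalizer)
  obtain ⟨k, hk⟩ := IsPGroup.iff_card.1 hp
  have hle : W ⊔ S ≤ R0 := sup_le W_le_R0 hS
  have hdvd := Subgroup.card_dvd_of_le hle
  rw [hk, card_stab 0] at hdvd
  have h6 : k ≤ 6 := by
    by_contra hlt
    have h := (pow_dvd_pow 3 (show 7 ≤ k by omega)).trans hdvd
    norm_num at h
  have he : S = W ⊔ S := Subgroup.eq_of_le_of_card_ge le_sup_right (by
    rw [hk, hc]; exact le_trans (Nat.pow_le_pow_right (by norm_num) h6) (by norm_num))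
  rw [he]
  exact le_sup_left

theorem triReach_ok : (triReach.all fun o => reachOK 112 cW o) = true := by decide +kernel

theorem bigReach_ok : reachOK 112 cW bigReach = true := by decide +kernel

theorem tri_cover : (Nat.beq triReach.length 10 && (List.range 10).all fun i =>
    (tri.getD i []).all (reachPts (triReach.getD i (0, []))).contains) = true := by decide +kernel

theorem big_count : decide ((reachPts bigReach).Nodup ∧ (reachPts bigReach).length = 81 ∧
    ∀ x ∈ reachPts bigReach, x < 112) = true := by decide +kernel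

theorem classes_cover : allN 112 (fun x => Nat.beq x 0 || (reachPts bigReach).contains x ||
    (List.range 10).any fun i => (tri.getD i []).contains x) = true := by decide +kernel

theorem tri_lt : (tri.all fun l => l.all fun x => Nat.blt x 112) = true := by decide +kernel

/-- the candidates for the orbit of `0` under a subgroup of index 112 -/
def orbList (J : List ℕ) : List ℕ := 0 :: J.flatMap fun i => tri.getD i []

theorem orbList_check : ((List.range 10).sublists.all fun J =>
    decide (orbList J).Nodup && (J.isEmpty || !decide ((orbList J).length ∣ 40) ||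
      Nat.blt (orbList J).length (els.map fun c => mk ((orbList J).map (getQ c))).dedup.length)) =
        true := by decide +kernel

theorem orbList_lt (J : List ℕ) : ∀ x ∈ orbList J, x < 112 := by
  intro x hx
  simp only [orbList, List.mem_cons, List.mem_flatMap] at hx
  rcases hx with rfl | ⟨i, -, hi⟩
  · norm_num
  · by_cases h : i < tri.length
    · rw [List.getD_eq_getElem _ _ h] at hi
      exact Nat.le_of_ble_eq_true (List.all_eq_true.1 (List.all_eq_true.1 tri_lt _ (List.getElem_mem h)) x hi)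
    · rw [List.getD_eq_default _ _ (by omega)] at hi
      simp at hi

/-- a subgroup of order `29160` containing a Sylow 3-subgroup of the stabiliser of `0` is that
stabiliser -/
theorem eq_R0 {Y S : Subgroup (Perm (Fin 112))} (hY : Y ≤ R) (hc : Nat.card Y = 29160)
    (hS : S ≤ Y ⊓ MulAction.stabilizer (Perm (Fin 112)) (0 : Fin 112)) (hSc : Nat.card S = 729) :
    Y = R0 := by
  classical
  have hW : W ≤ Y := (W_le (hS.trans (inf_le_inf_right _ hY)) hSc).trans (hS.trans inf_le_left)
  set O : Set (Fin 112) := MulAction.orbit Y (0 : Fin 112) with hO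
  have hinv : ∀ σ ∈ W, ∀ x ∈ O, σ x ∈ O := by
    rintro σ hσ _ ⟨g, rfl⟩
    exact ⟨⟨σ, hW hσ⟩ * g, rfl⟩
  have hprod := card_inf_stab Y (0 : Fin 112)
  rw [hc] at hprod
  have hdvd := Subgroup.card_dvd_of_le hS
  rw [hSc] at hdvd
  obtain ⟨c, hcc⟩ := hdvd
  rw [hcc] at hprod
  have hk40 : c * O.ncard = 40 := by
    have : 729 * (c * O.ncard) = 729 * 40 := by rw [← mul_assoc]; exact hprod
    omega
  have hk0 : O.ncard ≤ 40 := Nat.le_of_dvd (by norm_num) ⟨c, by rw [mul_comm]; exact hk40.symm⟩
  obtain ⟨hnd, hlen, hlt⟩ := of_decide_eq_true big_count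
  have hbig : ∀ x : Fin 112, (x : ℕ) ∈ reachPts bigReach → x ∉ O := by
    intro x hx hxO
    have hsub : ((Finset.univ.filter fun y : Fin 112 => (y : ℕ) ∈ reachPts bigReach) : Set _) ⊆ O :=
      fun y hy => reach_subset inM_W bigReach_ok hinv x y hx (Finset.mem_filter.1 hy).2 hxO
    have h1 := Set.ncard_le_ncard hsub
    rw [Set.ncard_coe_finset] at h1
    have h2 : 81 ≤ (Finset.univ.filter fun y : Fin 112 => (y : ℕ) ∈ reachPts bigReach).card := by
      rw [← hlen, ← List.toFinset_card_of_nodup hnd]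
      refine Finset.card_le_card_of_injOn (fun y => Fin.ofNat 112 y) (fun y hy => ?_) ?_
      · rw [List.coe_toFinset, Set.mem_setOf_eq] at hy
        simp [Nat.mod_eq_of_lt (hlt y hy), hy]
      · intro a ha b hb e
        rw [List.coe_toFinset, Set.mem_setOf_eq] at ha hb
        have e' := congrArg Fin.val e
        simpa [Nat.mod_eq_of_lt (hlt a ha), Nat.mod_eq_of_lt (hlt b hb)] using e'
    omega
  let J := (List.range 10).filter fun i => decide (∃ x : Fin 112, (x : ℕ) ∈ tri.getD i [] ∧ x ∈ O)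
  have hJs : J ∈ (List.range 10).sublists := List.mem_sublists.2 List.filter_sublist
  have hOeq : O = (mSet 112 (mk (orbList J)) : Set (Fin 112)) := by
    ext x
    rw [Finset.mem_coe, mem_mSet_mk, orbList, List.mem_cons, List.mem_flatMap]
    constructor
    · intro hx
      have h := allN_iff.1 classes_cover x x.2
      simp only [Bool.or_eq_true, Nat.beq_eq, List.contains_iff_mem, List.any_eq_true] at h
      rcases h with (h | h) | ⟨i, hi, h⟩
      · exact Or.inl h
      · exact absurd hx (hbig x h)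
      · exact Or.inr ⟨i, List.mem_filter.2 ⟨hi, decide_eq_true ⟨x, h, hx⟩⟩, h⟩
    · rintro (h | ⟨i, hi, h⟩)
      · rw [show x = 0 from Fin.ext h]
        exact MulAction.mem_orbit_self _
      · obtain ⟨hi, hex⟩ := List.mem_filter.1 hi
        obtain ⟨y, hy, hyO⟩ := of_decide_eq_true hex
        have hcov := tri_cover
        simp only [Bool.and_eq_true, Nat.beq_eq, List.all_eq_true, List.contains_iff_mem] at hcov
        have hi' : i < triReach.length := by rw [hcov.1]; exact List.mem_range.1 hi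
        have hy' := hcov.2 i hi _ hy
        have hx' := hcov.2 i hi _ h
        rw [List.getD_eq_getElem _ _ hi'] at hy' hx'
        exact reach_subset inM_W (List.all_eq_true.1 triReach_ok _ (List.getElem_mem hi')) hinv
          y x hy' hx' hyO
  have hchk := List.all_eq_true.1 orbList_check J hJs
  simp only [Bool.and_eq_true, decide_eq_true_eq, Bool.or_eq_true, List.isEmpty_iff,
    Bool.not_eq_true', decide_eq_false_iff_not, Nat.blt_eq] at hchk
  have hk : O.ncard = (orbList J).length := by
    rw [hOeq, Set.ncard_coe_finset, ← List.toFinset_card_of_nodup hchk.1]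
    refine Finset.card_bij (fun x _ => (x : ℕ))
      (fun x hx => List.mem_toFinset.2 (mem_mSet_mk.1 hx)) (fun a _ b _ e => Fin.ext e) fun y hy => ?_
    rw [List.mem_toFinset] at hy
    exact ⟨⟨y, orbList_lt J y hy⟩, mem_mSet_mk.2 hy, rfl⟩
  rcases hchk.2 with (hJ | hJ) | hJ
  · have hO1 : O.ncard = 1 := by rw [hk, hJ]; rfl
    have hle : Y ≤ R0 := by
      intro g hg
      refine ⟨hY hg, ?_⟩
      have h1 : g • (0 : Fin 112) ∈ O := ⟨⟨g, hg⟩, rfl⟩
      obtain ⟨a, ha⟩ := Set.ncard_eq_one.1 hO1
      have h0 : (0 : Fin 112) ∈ O := MulAction.mem_orbit_self _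
      rw [ha, Set.mem_singleton_iff] at h1 h0
      exact h1.trans h0.symm
    exact Subgroup.eq_of_le_of_card_ge hle (by rw [hc, card_stab 0])
  · exact absurd ⟨c, by rw [← hk, mul_comm]; exact hk40.symm⟩ hJ
  · exfalso
    have hle : Y ⊓ MulAction.stabilizer (Perm (Fin 112)) (0 : Fin 112) ≤
        R0 ⊓ MulAction.stabilizer (Perm (Fin 112)) (mSet 112 (mk (orbList J))) := by
      rintro g ⟨hg, hg0⟩
      refine ⟨⟨hY hg, hg0⟩, ?_⟩
      show g • mSet 112 (mk (orbList J)) = _
      refine Finset.coe_injective ?_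
      rw [Finset.coe_smul_finset, ← hOeq]
      exact MulAction.smul_orbit (⟨g, hg⟩ : Y) _
    have h1 := Nat.le_of_dvd Nat.card_pos (Subgroup.card_dvd_of_le hle)
    have h2 := card_inf_stab R0 (mSet 112 (mk (orbList J)))
    have h3 := card_images_le inM_els (orbList_lt J)
    rw [card_stab 0] at h2
    rw [hcc] at h1
    have hc0 : 0 < c := Nat.pos_of_ne_zero fun h => by simp [h] at hk40
    have h4 : 729 * c * ((orbList J).length + 1) ≤ 29160 := by
      rw [← h2]
      exact Nat.mul_le_mul h1 (le_trans hJ h3)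
    rw [← hk, mul_add, mul_assoc 729 c, hk40] at h4
    omega

/-- subgroups of index 112 are point stabilisers -/
theorem index_small {Y : Subgroup (Perm (Fin 112))} (hY : Y ≤ R) (hc : Nat.card Y = 29160) :
    ∃ y : Fin 112, Y = R ⊓ MulAction.stabilizer (Perm (Fin 112)) y := by
  haveI : Fact (Nat.Prime 3) := ⟨Nat.prime_three⟩
  obtain ⟨S, hS⟩ := Sylow.exists_subgroup_card_pow_prime (G := Y) 3 (n := 6)
    (by rw [hc]; norm_num)
  obtain ⟨y, hy⟩ := (IsPGroup.of_card (n := 6) hS : IsPGroup 3 S).nonempty_fixed_point_of_prime_not_dvd_card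
    (Fin 112) (by rw [Nat.card_fin]; norm_num)
  obtain ⟨h, hh, hy0⟩ := R_trans y 0
  refine ⟨y, ?_⟩
  let f := (MulAut.conj h).toMonoidHom
  have hinj : Function.Injective f := (MulAut.conj h).injective
  have key := eq_R0 (Y := Y.map f) (S := (S.map Y.subtype).map f) ?_ ?_ ?_ ?_
  · refine Subgroup.eq_of_le_of_card_ge (fun g hg => ⟨hY hg, ?_⟩) (by rw [hc, card_stab y])
    have hg' : f g ∈ R0 := key ▸ Subgroup.mem_map_of_mem f hg
    have e : (h * g * h⁻¹) (0 : Fin 112) = 0 := hg'.2
    rw [Perm.mul_apply, Perm.mul_apply, ← hy0, inv_app] at e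
    exact h.injective e
  · rintro _ ⟨g, hg, rfl⟩
    exact R.mul_mem (R.mul_mem hh (hY hg)) (R.inv_mem hh)
  · rw [Subgroup.card_map_of_injective hinj, hc]
  · rintro _ ⟨_, ⟨s, hs, rfl⟩, rfl⟩
    refine ⟨Subgroup.mem_map_of_mem f s.2, ?_⟩
    show (h * (s : Perm (Fin 112)) * h⁻¹) (0 : Fin 112) = 0
    rw [Perm.mul_apply, Perm.mul_apply, ← hy0, inv_app, show (s : Perm (Fin 112)) y = y from hy ⟨s, hs⟩]
  · rw [Subgroup.card_map_of_injective hinj,
      Subgroup.card_map_of_injective Y.subtype_injective, hS]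
    norm_num

end CfsgLib.Spor.McLRank3
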