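import Cfsg.Agent.Lib.Spor.McLRank3.Deg112
import Mathlib.GroupTheory.Transfer
import Mathlib.GroupTheory.Perm.Cycle.Type

/-!
The group of degree 112 isomorphic to `PSU₄(3)`: its subgroups of index 162 fix a hemisystem.
-/

set_option autoImplicit false
set_option maxRecDepth 100000

open scoped Pointwise

namespace CfsgLib.Spor.McLRank3

open Equiv CfsgLib.Spor.PermOut

/-- the lines -/
def LineSet : Finset (Finset (Fin 112)) := (lines.map (mSet 112)).toFinset

theorem mem_LineSet {L : Finset (Fin 112)} : L ∈ LineSet ↔ ∃ l ∈ lines, mSet 112 l = L := by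
  simp [LineSet]

theorem lineImg_ok : ((List.range lines.length).all fun i =>
    imgOK 112 cA (lines.getD i 0) (lines.getD (lineA.getD i 0) 0) &&
    imgOK 112 cB (lines.getD i 0) (lines.getD (lineB.getD i 0) 0) &&
    Nat.blt (lineA.getD i 0) lines.length && Nat.blt (lineB.getD i 0) lines.length) = true := by
  decide +kernel

theorem R_le_stab_lines : R ≤ MulAction.stabilizer (Perm (Fin 112)) LineSet := by
  rw [Subgroup.closure_le]
  intro σ hσ
  show σ • LineSet = LineSet
  refine Finset.eq_of_subset_of_card_le (fun L hL => ?_) (by rw [Finset.card_smul_finset])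
  obtain ⟨L', hL', rfl⟩ := Finset.mem_smul_finset.1 hL
  obtain ⟨l, hl, rfl⟩ := mem_LineSet.1 hL'
  obtain ⟨i, hi, rfl⟩ := List.mem_iff_getElem.1 hl
  have h := List.all_eq_true.1 lineImg_ok i (List.mem_range.2 hi)
  simp only [Bool.and_eq_true, List.getD_eq_getElem _ _ hi] at h
  obtain ⟨⟨⟨hA, hB⟩, hAl⟩, hBl⟩ := h
  refine mem_LineSet.2 ?_
  simp only [Set.mem_insert_iff, Set.mem_singleton_iff] at hσ
  rcases hσ with rfl | rfl
  · exact ⟨_, by rw [List.getD_eq_getElem _ _ (Nat.le_of_ble_eq_true hAl)]; exact List.getElem_mem _,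
      (imgOK_spec rep_cA hA).symm⟩
  · exact ⟨_, by rw [List.getD_eq_getElem _ _ (Nat.le_of_ble_eq_true hBl)]; exact List.getElem_mem _,
      (imgOK_spec rep_cB hB).symm⟩

theorem smul_line {σ : Perm (Fin 112)} (hσ : σ ∈ R) {L : Finset (Fin 112)} (hL : L ∈ LineSet) :
    σ • L ∈ LineSet := by
  have := Finset.smul_mem_smul_finset (a := σ) hL
  rwa [MulAction.mem_stabilizer_iff.1 (R_le_stab_lines hσ)] at this

theorem line0_ok : (lines.all fun l => !l.testBit 0 || (List.range 10).any fun i =>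
    Nat.beq l (mk (0 :: tri.getD i []))) = true := by decide +kernel

theorem line_orbit_ok : ((List.range 10).all fun i => Nat.ble 10
    (els.map fun c => mk ((0 :: tri.getD i []).map (getQ c))).dedup.length) = true := by
  decide +kernel

/-- the lines through `0` -/
def Lines0 : Finset (Finset (Fin 112)) := LineSet.filter fun L => (0 : Fin 112) ∈ L

theorem mem_Lines0 {L : Finset (Fin 112)} (hL : L ∈ Lines0) :
    ∃ i < 10, L = mSet 112 (mk (0 :: tri.getD i [])) := by
  obtain ⟨hL, h0⟩ := Finset.mem_filter.1 hL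
  obtain ⟨l, hl, rfl⟩ := mem_LineSet.1 hL
  rw [mem_mSet] at h0
  have h := List.all_eq_true.1 line0_ok l hl
  simp only [Fin.val_zero] at h0
  simp only [h0, Bool.not_true, Bool.false_or, List.any_eq_true, List.mem_range, Nat.beq_eq] at h
  obtain ⟨i, hi, e⟩ := h
  exact ⟨i, hi, by rw [← e]⟩

theorem card_Lines0 : Lines0.card ≤ 10 := by
  refine le_trans (Finset.card_le_card (t := (Finset.range 10).image fun i =>
    mSet 112 (mk (0 :: tri.getD i []))) fun L hL => ?_) (Finset.card_image_le.trans (by simp))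
  obtain ⟨i, hi, rfl⟩ := mem_Lines0 hL
  exact Finset.mem_image.2 ⟨i, Finset.mem_range.2 hi, rfl⟩

theorem tri_lt' (i : ℕ) : ∀ x ∈ (0 :: tri.getD i []), x < 112 := by
  have h := orbList_lt [i]
  simpa [orbList] using h

theorem smul_Lines0 {σ : Perm (Fin 112)} (hσ : σ ∈ R0) {L : Finset (Fin 112)} (hL : L ∈ Lines0) :
    σ • L ∈ Lines0 := by
  obtain ⟨hL, h0⟩ := Finset.mem_filter.1 hL
  refine Finset.mem_filter.2 ⟨smul_line hσ.1 hL, ?_⟩
  have h := Finset.smul_mem_smul_finset (a := σ) h0
  rwa [show σ • (0 : Fin 112) = 0 from hσ.2] at h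

/-- a subgroup of order 360 of a point stabiliser is transitive on the lines at the point -/
theorem trans_Lines0 {B : Subgroup (Perm (Fin 112))} (hB : B ≤ R0) (hc : Nat.card B = 360)
    {L L' : Finset (Fin 112)} (hL : L ∈ Lines0) (hL' : L' ∈ Lines0) : ∃ b ∈ B, b • L = L' := by
  have hsub : ∀ {H : Subgroup (Perm (Fin 112))}, H ≤ R0 →
      MulAction.orbit H L ⊆ (Lines0 : Set (Finset (Fin 112))) := by
    rintro H hH _ ⟨g, rfl⟩
    exact smul_Lines0 (hH g.2) hL
  have hle : ∀ {H : Subgroup (Perm (Fin 112))}, H ≤ R0 → (MulAction.orbit H L).ncard ≤ 10 :=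
    fun hH => (Set.ncard_le_ncard (hsub hH)).trans (by rw [Set.ncard_coe_finset]; exact card_Lines0)
  have h10 : 10 ≤ (MulAction.orbit R0 L).ncard := by
    obtain ⟨i, hi, rfl⟩ := mem_Lines0 hL
    exact (Nat.le_of_ble_eq_true (List.all_eq_true.1 line_orbit_ok i (List.mem_range.2 hi))).trans
      (card_images_le inM_els (tri_lt' i))
  have h1 := card_inf_stab R0 L
  rw [card_stab 0, show (MulAction.orbit R0 L).ncard = 10 from le_antisymm (hle le_rfl) h10] at h1
  have h2 := card_inf_stab B L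
  rw [hc] at h2
  have hd : Nat.card ↥(B ⊓ MulAction.stabilizer (Perm (Fin 112)) L) ∣ 36 := by
    have a : Nat.card ↥(B ⊓ MulAction.stabilizer (Perm (Fin 112)) L) ∣ 360 := ⟨_, h2.symm⟩
    have b := Subgroup.card_dvd_of_le (inf_le_inf_right (MulAction.stabilizer (Perm (Fin 112)) L) hB)
    rw [show Nat.card ↥(R0 ⊓ MulAction.stabilizer (Perm (Fin 112)) L) = 2916 by omega] at b
    exact (Nat.dvd_gcd a b).trans (by norm_num)
  have h36 := Nat.le_of_dvd (by norm_num) hd
  have hk : 10 ≤ (MulAction.orbit B L).ncard := by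
    by_contra hlt
    have := Nat.mul_le_mul h36 (Nat.le_of_lt_succ (not_le.1 hlt))
    omega
  have he : MulAction.orbit B L = (Lines0 : Set (Finset (Fin 112))) :=
    Set.eq_of_subset_of_ncard_le (hsub hB)
      (by rw [Set.ncard_coe_finset]; exact card_Lines0.trans hk) (Finset.finite_toSet _)
  obtain ⟨b, hb⟩ : L' ∈ MulAction.orbit B L := he ▸ Finset.mem_coe.2 hL'
  exact ⟨b.1, b.2, hb⟩

/-- conjugation moves point stabilisers -/
theorem map_inf_stab {X : Subgroup (Perm (Fin 112))} (hX : X ≤ R) {h : Perm (Fin 112)} (hh : h ∈ R)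
    {y : Fin 112} (hy : h y = 0) :
    (X ⊓ MulAction.stabilizer (Perm (Fin 112)) y).map (MulAut.conj h).toMonoidHom ≤ R0 := by
  rintro _ ⟨g, ⟨hg, hg'⟩, rfl⟩
  refine ⟨R.mul_mem (R.mul_mem hh (hX hg)) (R.inv_mem hh), ?_⟩
  show (h * g * h⁻¹) (0 : Fin 112) = 0
  rw [Perm.mul_apply, Perm.mul_apply, ← hy, inv_app, show g y = y from hg']

theorem trans_lines_at {X : Subgroup (Perm (Fin 112))} (hX : X ≤ R) {y : Fin 112}
    (hc : Nat.card ↥(X ⊓ MulAction.stabilizer (Perm (Fin 112)) y) = 360)
    {L L' : Finset (Fin 112)} (hL : L ∈ LineSet) (hy : y ∈ L) (hL' : L' ∈ LineSet) (hy' : y ∈ L') :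
    ∃ b ∈ X, b y = y ∧ b • L = L' := by
  obtain ⟨h, hh, h0⟩ := R_trans y 0
  have hmem : ∀ {M : Finset (Fin 112)}, M ∈ LineSet → y ∈ M → h • M ∈ Lines0 := fun hM hyM =>
    Finset.mem_filter.2 ⟨smul_line hh hM, h0 ▸ Finset.smul_mem_smul_finset (a := h) hyM⟩
  obtain ⟨b, hb, e⟩ := trans_Lines0 (map_inf_stab hX hh h0)
    (by rw [Subgroup.card_map_of_injective (MulAut.conj h).injective, hc]) (hmem hL hy) (hmem hL' hy')
  obtain ⟨g, ⟨hg, hgy⟩, rfl⟩ := hb
  refine ⟨g, hg, hgy, ?_⟩
  have e' : (h * g * h⁻¹) • h • L = h • L' := e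
  rw [smul_smul, inv_mul_cancel_right, mul_smul] at e'
  exact smul_left_cancel h e'

/-- elements of prime order `p` are conjugate up to powers when `p²` does not divide the order -/
theorem exists_conj_pow {G : Type*} [Group G] [Finite G] {p : ℕ} [hp : Fact p.Prime]
    (h2 : ¬ p ^ 2 ∣ Nat.card G) {x y : G} (hx : orderOf x = p) (hy : orderOf y = p) :
    ∃ (h : G) (k : ℕ), y = (h * x * h⁻¹) ^ k := by
  classical
  have hgrp : ∀ z : G, orderOf z = p → ∃ P : Sylow p G, (P : Subgroup G) = Subgroup.zpowers z := by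
    intro z hz
    obtain ⟨P, hP⟩ := (IsPGroup.of_card (n := 1) (by rw [Nat.card_zpowers, hz, pow_one]) :
      IsPGroup p (Subgroup.zpowers z)).exists_le_sylow
    refine ⟨P, (Subgroup.eq_of_le_of_card_ge hP ?_).symm⟩
    obtain ⟨k, hk⟩ := IsPGroup.iff_card.1 P.2
    rw [Nat.card_zpowers, hz, hk]
    rcases Nat.lt_or_ge k 2 with hk2 | hk2
    · calc p ^ k ≤ p ^ 1 := Nat.pow_le_pow_right hp.1.pos (by omega)
        _ = p := pow_one p
    · exact absurd ((pow_dvd_pow p hk2).trans (hk ▸ Subgroup.card_subgroup_dvd_card _)) h2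
  obtain ⟨P, hP⟩ := hgrp x hx
  obtain ⟨Q, hQ⟩ := hgrp y hy
  obtain ⟨h, rfl⟩ := MulAction.exists_smul_eq G P Q
  have hy' : y ∈ ((h • P : Sylow p G) : Subgroup G) := hQ ▸ Subgroup.mem_zpowers y
  rw [Sylow.coe_subgroup_smul, Subgroup.mem_pointwise_smul_iff_inv_smul_mem, hP] at hy'
  obtain ⟨k, -, e⟩ := Finset.mem_image.1 (mem_zpowers_iff_mem_range_orderOf.1 hy')
  refine ⟨h, k, ?_⟩
  rw [conj_pow]
  change x ^ k = (MulAut.conj h)⁻¹ • y at e
  rw [e]
  simp [MulAut.smul_def, mul_assoc]

/-- the element of order five -/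
noncomputable abbrev u : Perm (Fin 112) := permOf 112 cU

theorem inM_cU : InM R0 cU := by
  have h : (elR.contains cU && Nat.beq (getQ cU 0) 0) = true := by decide +kernel
  rw [Bool.and_eq_true, List.contains_iff_mem, Nat.beq_eq] at h
  obtain ⟨σ, hσ, hr⟩ := inM_elR cU h.1
  exact ⟨σ, ⟨hσ, Fin.ext ((hr 0).trans h.2)⟩, hr⟩

theorem orderOf_u : orderOf u = 5 := by
  haveI : Fact (Nat.Prime 5) := ⟨Nat.prime_five⟩
  have h : (allN 112 (fun i => Nat.beq (itQ cU 5 i) i) &&
      !Nat.beq (getQ cU 12) 12) = true := by decide +kernel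
  simp only [Bool.and_eq_true, allN_iff, Nat.beq_eq, Bool.not_eq_true'] at h
  refine orderOf_eq_prime (Equiv.ext fun i => Fin.ext ((inM_cU.rep.itQ 5 i).trans (h.1 i i.2)))
    fun e => ?_
  have h12 := inM_cU.rep (12 : Fin 112)
  have e' : permOf 112 cU = 1 := e
  rw [e'] at h12
  have : Nat.beq (getQ cU 12) 12 = true := Nat.beq_eq.mpr h12.symm
  simp [this] at h

theorem cands_count :
    Nat.ble ([1, 2, 3, 4].flatMap fun k => cands 112 cU cU k tailLev).length 10 = true := by
  decide +kernel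

theorem card_norm_u {B : Subgroup (Perm (Fin 112))} (hB : B ≤ R0) :
    Nat.card ↥(B ⊓ Subgroup.normalizer (Subgroup.zpowers u : Set (Perm (Fin 112)))) ≤ 10 := by
  classical
  set L := [1, 2, 3, 4].flatMap fun k => cands 112 cU cU k tailLev
  have key : ∀ y : ↥(B ⊓ Subgroup.normalizer (Subgroup.zpowers u : Set (Perm (Fin 112)))),
      ∃ q ∈ L, ∀ i : Fin 112, (((y : Perm (Fin 112)) i : Fin 112) : ℕ) = app q i := by
    rintro ⟨y, hyB, hyN⟩
    have h1 : y * u * y⁻¹ ∈ Subgroup.zpowers u :=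
      ((Subgroup.mem_normalizer_iff.1 hyN) u).1 (Subgroup.mem_zpowers u)
    obtain ⟨k, hk, e⟩ := Finset.mem_image.1 (mem_zpowers_iff_mem_range_orderOf.1 h1)
    rw [orderOf_u, Finset.mem_range] at hk
    have hk0 : k ≠ 0 := by
      rintro rfl
      have h5 := orderOf_u
      rw [show u = 1 from conj_eq_one_iff.1 (show y * u * y⁻¹ = 1 from (by simpa using e.symm)),
        orderOf_one] at h5
      omega
    have e' : u ^ k = y * u * y⁻¹ := e
    obtain ⟨q, hq, hv⟩ := exists_cand (M := R0) (k := k) inM_cU.rep inM_cU.rep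
      (by rw [e', inv_mul_cancel_right]) (hB hyB) tail_ok tail_inM tail_card
    refine ⟨q, List.mem_flatMap.2 ⟨k, ?_, hq⟩, hv⟩
    simp only [List.mem_cons, List.not_mem_nil, or_false]
    omega
  choose q hqL hqv using key
  have hinj : Function.Injective fun y => (⟨q y, hqL y⟩ : {x // x ∈ L}) := by
    intro a b e
    refine Subtype.ext (Equiv.ext fun i => Fin.ext ?_)
    rw [hqv, hqv, show q a = q b from congrArg Subtype.val e]
  calc Nat.card _ ≤ Nat.card {x // x ∈ L} := Nat.card_le_card_of_injective _ hinj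
    _ = L.toFinset.card := by
      rw [Nat.card_eq_fintype_card, Fintype.card_of_subtype L.toFinset (fun x => List.mem_toFinset)]
    _ ≤ L.length := L.toFinset_card_le
    _ ≤ 10 := Nat.le_of_ble_eq_true cands_count

/-- no subgroup of order 180 of a point stabiliser -/
theorem no_half {B₀ : Subgroup (Perm (Fin 112))} (hB₀ : B₀ ≤ R0) : Nat.card B₀ ≠ 180 := by
  intro hc₀
  haveI : Fact (Nat.Prime 5) := ⟨Nat.prime_five⟩
  haveI : Fact (Nat.Prime 3) := ⟨Nat.prime_three⟩
  obtain ⟨⟨v₀, hv₀⟩, hv₀o⟩ :=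
    exists_prime_orderOf_dvd_card' (G := B₀) 5 (by rw [hc₀]; norm_num)
  rw [Subgroup.orderOf_mk] at hv₀o
  have hu0 : u ∈ R0 := inM_cU.mem
  obtain ⟨⟨h, hh⟩, k, hk⟩ := exists_conj_pow (G := R0) (p := 5) (by rw [card_stab 0]; norm_num)
    (x := ⟨v₀, hB₀ hv₀⟩) (y := ⟨u, hu0⟩) (by rw [Subgroup.orderOf_mk]; exact hv₀o)
    (by rw [Subgroup.orderOf_mk]; exact orderOf_u)
  set B := B₀.map (MulAut.conj h).toMonoidHom with hBdef
  have hB : B ≤ R0 := by
    rintro _ ⟨g, hg, rfl⟩
    exact R0.mul_mem (R0.mul_mem hh (hB₀ hg)) (R0.inv_mem hh)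
  have hc : Nat.card B = 180 := by
    rw [hBdef, Subgroup.card_map_of_injective (MulAut.conj h).injective, hc₀]
  have huB : u ∈ B := by
    have e : u = (h * v₀ * h⁻¹) ^ k := congrArg Subtype.val hk
    rw [e]
    exact B.pow_mem (Subgroup.mem_map_of_mem (MulAut.conj h).toMonoidHom hv₀) k
  set u' : B := ⟨u, huB⟩
  have hu' : orderOf u' = 5 := by rw [Subgroup.orderOf_mk]; exact orderOf_u
  obtain ⟨P, hP⟩ := (IsPGroup.of_card (n := 1) (by rw [Nat.card_zpowers, hu', pow_one]) :
    IsPGroup 5 (Subgroup.zpowers u')).exists_le_sylow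
  have hPc : (P : Subgroup B) = Subgroup.zpowers u' := by
    refine (Subgroup.eq_of_le_of_card_ge hP ?_).symm
    obtain ⟨m, hm⟩ := IsPGroup.iff_card.1 P.2
    rw [Nat.card_zpowers, hu', hm]
    rcases Nat.lt_or_ge m 2 with hm2 | hm2
    · calc 5 ^ m ≤ 5 ^ 1 := Nat.pow_le_pow_right (by norm_num) (by omega)
        _ = 5 := pow_one 5
    · have := (pow_dvd_pow 5 hm2).trans (hm ▸ Subgroup.card_subgroup_dvd_card _)
      rw [hc] at this
      norm_num at this
  set N := Subgroup.normalizer ((P : Subgroup B) : Set B) with hN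
  have hN10 : Nat.card N ≤ 10 := by
    rw [← Subgroup.card_map_of_injective B.subtype_injective (K := N)]
    refine le_trans (Nat.le_of_dvd Nat.card_pos (Subgroup.card_dvd_of_le ?_)) (card_norm_u hB)
    rintro _ ⟨g, hg, rfl⟩
    refine ⟨g.2, mem_normalizer_closure' ?_⟩
    have := (Subgroup.mem_normalizer_iff.1 hg u').1 (hPc ▸ Subgroup.mem_zpowers u')
    rw [hPc] at this
    obtain ⟨j, hj⟩ := this
    exact ⟨j, congrArg Subtype.val hj⟩
  have hP5 : Nat.card P = 5 := by
    rw [show Nat.card P = Nat.card (P : Subgroup B) from rfl, hPc, Nat.card_zpowers, hu']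
  have h5 : 5 ∣ Nat.card N := hP5 ▸ Subgroup.card_dvd_of_le Subgroup.le_normalizer
  have hidx : Nat.card (Sylow 5 B) = N.index := Sylow.card_eq_index_normalizer P
  have hmul := Subgroup.card_mul_index N
  rw [← hidx, hc] at hmul
  have hmod : Nat.card (Sylow 5 B) % 5 = 1 := card_sylow_modEq_one 5 B
  have hNc : Nat.card N = 5 := by
    obtain ⟨j, hj⟩ := h5
    have : j = 1 ∨ j = 2 ∨ j = 0 := by omega
    rcases this with rfl | rfl | rfl
    · omega
    · rw [hj] at hmul; omega
    · rw [hj] at hmul; omega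
  have hNP : N = (P : Subgroup B) :=
    (Subgroup.eq_of_le_of_card_ge Subgroup.le_normalizer (by rw [hNc]; exact hP5.ge)).symm
  have hNC : N ≤ Subgroup.centralizer ((P : Subgroup B) : Set B) := by
    rw [hNP, hPc]
    intro g hg z hz
    obtain ⟨i, rfl⟩ := hg
    obtain ⟨j, rfl⟩ := hz
    exact (Commute.zpow_zpow_self u' j i).eq
  have hcomp := MonoidHom.ker_transferSylow_isComplement' P hNC
  set M := (MonoidHom.transferSylow P hNC).ker with hM
  have hMc : Nat.card M = 36 := by
    have h := hcomp.card_mul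
    rw [show Nat.card (P : Subgroup B) = 5 from hP5, hc] at h
    omega
  have hMi : M.index = 5 := by
    have h := Subgroup.card_mul_index M
    rw [hMc, hc] at h
    omega
  have hmem : ∀ x : B, ¬ 5 ∣ orderOf x → x ∈ M := by
    intro x hx
    have hco : (orderOf x).Coprime 5 :=
      (Nat.prime_five.coprime_iff_not_dvd.2 hx).symm
    obtain ⟨m, hm⟩ := exists_pow_eq_self_of_coprime hco.symm
    rw [← hm, ← hMi]
    exact M.pow_mem (Subgroup.pow_index_mem M x) m
  obtain ⟨Q⟩ := (inferInstance : Nonempty (Sylow 3 B))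
  have hQc : Nat.card Q = 9 := by
    rw [Sylow.card_eq_multiplicity, hc, show (180 : ℕ) = 3 ^ 2 * 20 by norm_num,
      Nat.factorization_mul (by norm_num) (by norm_num), Finsupp.add_apply,
      Nat.Prime.factorization_pow Nat.prime_three, Finsupp.single_eq_same,
      Nat.factorization_eq_zero_of_not_dvd (by norm_num), add_zero]
    norm_num
  have hQM : (Q : Subgroup B) ≤ M := fun x hx => hmem x fun h5x => by
    have := h5x.trans ((Subgroup.orderOf_dvd_natCard (Q : Subgroup B) hx).trans hQc.dvd)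
    norm_num at this
  have hsup := Sylow.normalizer_sup_eq_top' Q hQM
  have h5N : 5 ∣ Nat.card (Subgroup.normalizer ((Q : Subgroup B) : Set B)) := by
    by_contra hn
    have hle : Subgroup.normalizer ((Q : Subgroup B) : Set B) ≤ M := fun x hx =>
      hmem x fun h5x => hn (h5x.trans (Subgroup.orderOf_dvd_natCard _ hx))
    have htop : M = ⊤ := by rw [← hsup]; exact (sup_eq_right.2 hle).symm
    rw [htop, Subgroup.card_top, hc] at hMc
    norm_num at hMc
  obtain ⟨⟨v, hvN⟩, hvo⟩ := exists_prime_orderOf_dvd_card' 5 h5N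
  rw [Subgroup.orderOf_mk] at hvo
  classical
  letI : Fintype Q := Fintype.ofFinite _
  let f : Perm Q :=
    { toFun := fun x => ⟨v * x.1 * v⁻¹, ((Subgroup.mem_normalizer_iff.1 hvN) x.1).1 x.2⟩
      invFun := fun x => ⟨v⁻¹ * x.1 * v, ((Subgroup.mem_normalizer_iff''.1 hvN) x.1).1 x.2⟩
      left_inv := fun x => Subtype.ext (by simp [mul_assoc])
      right_inv := fun x => Subtype.ext (by simp [mul_assoc]) }
  have hf : ∀ (n : ℕ) (x : Q), ((f ^ n) x : B) = v ^ n * x * (v ^ n)⁻¹ := by
    intro n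
    induction n with
    | zero => simp
    | succ n ih =>
      intro x
      rw [pow_succ', Perm.mul_apply, pow_succ']
      show v * ((f ^ n) x : B) * v⁻¹ = _
      rw [ih]
      simp [mul_assoc]
  have hf5 : f ^ 5 ^ 1 = 1 := Equiv.ext fun x => Subtype.ext (by
    rw [hf, pow_one, ← hvo, pow_orderOf_eq_one]; simp)
  have hfix := Equiv.Perm.card_compl_support_modEq hf5
  rw [← Nat.card_eq_fintype_card, show Nat.card Q = 9 from hQc] at hfix
  obtain ⟨x, hx, hx1⟩ : ∃ x ∈ f.supportᶜ, x ≠ 1 := by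
    by_contra hn
    push Not at hn
    have : f.supportᶜ.card ≤ 1 := by
      refine (Finset.card_le_card (t := {1}) fun x hx => Finset.mem_singleton.2 (hn x hx)).trans ?_
      simp
    unfold Nat.ModEq at hfix
    omega
  rw [Finset.mem_compl, Equiv.Perm.notMem_support] at hx
  have hcx : v * x.1 * v⁻¹ = x.1 := congrArg Subtype.val hx
  obtain ⟨w, j, hw⟩ := exists_conj_pow (G := B) (p := 5) (by rw [hc]; norm_num) hvo hu'
  have hcomm : Commute (w * x.1 * w⁻¹) u' := by
    rw [hw]
    refine Commute.pow_right ?_ j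
    show w * x.1 * w⁻¹ * (w * v * w⁻¹) = w * v * w⁻¹ * (w * x.1 * w⁻¹)
    have hvx : v * x.1 = x.1 * v := mul_inv_eq_iff_eq_mul.1 hcx
    exact ((show Commute x.1 v from hvx.symm).map (MulAut.conj w).toMonoidHom).eq
  have hinN : w * x.1 * w⁻¹ ∈ N := by
    rw [hN, hPc, Subgroup.mem_normalizer_iff]
    intro z
    constructor
    · rintro ⟨i, rfl⟩
      rw [(hcomm.zpow_right i).eq, mul_inv_cancel_right]
      exact ⟨i, rfl⟩
    · rintro ⟨i, hi⟩
      refine ⟨i, ?_⟩
      have e : w * x.1 * w⁻¹ * u' ^ i = w * x.1 * w⁻¹ * z := by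
        rw [(hcomm.zpow_right i).eq]
        exact mul_inv_eq_iff_eq_mul.1 hi.symm |>.symm
      exact mul_left_cancel e
  have hd5 : orderOf (w * x.1 * w⁻¹) ∣ 5 := hNc ▸ Subgroup.orderOf_dvd_natCard N hinN
  have hd9 : orderOf (w * x.1 * w⁻¹) ∣ 9 := by
    rw [show w * x.1 * w⁻¹ = MulAut.conj w x.1 from rfl, MulEquiv.orderOf_eq]
    exact hQc ▸ Subgroup.orderOf_dvd_natCard (Q : Subgroup B) x.2
  have h1 : orderOf (w * x.1 * w⁻¹) = 1 := Nat.dvd_one.1 (by
    have := Nat.dvd_gcd hd5 hd9
    exact this.trans (by norm_num))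
  rw [orderOf_eq_one_iff, conj_eq_one_iff] at h1
  exact hx1 (Subtype.ext h1)
where
  mem_normalizer_closure' {g : Perm (Fin 112)} (h : g * u * g⁻¹ ∈ Subgroup.zpowers u) :
      g ∈ Subgroup.normalizer (Subgroup.zpowers u : Set (Perm (Fin 112))) := by
    rw [Subgroup.zpowers_eq_closure] at h ⊢
    exact mem_normalizer_closure fun x hx => by rw [Set.mem_singleton_iff.1 hx]; exact h

/-- the orbits of a subgroup of index 162 -/
theorem orbit_large {X : Subgroup (Perm (Fin 112))} (hX : X ≤ R) (hc : Nat.card X = 20160)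
    (y : Fin 112) : Nat.card ↥(X ⊓ MulAction.stabilizer (Perm (Fin 112)) y) = 360 ∧
      (MulAction.orbit X y).ncard = 56 := by
  have h1 := card_inf_stab X y
  rw [hc] at h1
  have hk : (MulAction.orbit X y).ncard ≤ 112 :=
    (Set.ncard_le_card _).trans (by rw [Nat.card_fin])
  have hd := Subgroup.card_dvd_of_le (inf_le_inf_right (MulAction.stabilizer (Perm (Fin 112)) y) hX)
  rw [card_stab y] at hd
  set c := Nat.card ↥(X ⊓ MulAction.stabilizer (Perm (Fin 112)) y) with hc'
  have hd' : c ∣ 360 := (Nat.dvd_gcd ⟨_, h1.symm⟩ hd).trans (by norm_num)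
  obtain ⟨m, hm⟩ := hd'
  have hm2 : m ≤ 2 := by
    by_contra hlt
    have h3 : c * 3 ≤ 360 := hm ▸ Nat.mul_le_mul_left c (by omega)
    have h4 : c * (MulAction.orbit X y).ncard ≤ c * 112 := Nat.mul_le_mul_left c hk
    omega
  rcases (show m = 0 ∨ m = 1 ∨ m = 2 by omega) with rfl | rfl | rfl
  · omega
  · rw [mul_one] at hm
    refine ⟨hm.symm, ?_⟩
    rw [← hm] at h1
    omega
  · exfalso
    obtain ⟨h, hh, h0⟩ := R_trans y 0
    refine no_half (map_inf_stab hX hh h0) ?_
    rw [Subgroup.card_map_of_injective (MulAut.conj h).injective, ← hc']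
    omega

/-- the element of order seven -/
noncomputable abbrev g0 : Perm (Fin 112) := permOf 112 cG

theorem inM_cG : InM R cG := inM_elR cG (List.contains_iff_mem.1 (by decide +kernel))

theorem orderOf_g0 : orderOf g0 = 7 := by
  haveI : Fact (Nat.Prime 7) := ⟨by norm_num⟩
  have h : (allN 112 (fun i => Nat.beq (itQ cG 7 i) i) &&
      !Nat.beq (getQ cG 0) 0) = true := by decide +kernel
  simp only [Bool.and_eq_true, allN_iff, Nat.beq_eq, Bool.not_eq_true'] at h
  refine orderOf_eq_prime (Equiv.ext fun i => Fin.ext ((inM_cG.rep.itQ 7 i).trans (h.1 i i.2)))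
    fun e => ?_
  have h0 := inM_cG.rep (0 : Fin 112)
  have e' : permOf 112 cG = 1 := e
  rw [e'] at h0
  have : Nat.beq (getQ cG 0) 0 = true := Nat.beq_eq.mpr h0.symm
  simp [this] at h

theorem cyc_ok : allN 112 (fun x => Nat.blt (cycIdx.getD x 16) 16 &&
    (List.range 7).any fun k => Nat.beq (itQ cG k (cycHead.getD (cycIdx.getD x 16) 0)) x) = true := by
  decide +kernel

theorem cycHead_lt : (cycHead.all fun x => Nat.blt x 112) = true := by decide +kernel

/-- the points of a mask, as a list -/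
def ptsOf (l : ℕ) : List ℕ := (List.range 112).filter fun x => l.testBit x

theorem lineCyc_ok : ((List.range lines.length).all fun i =>
    decide ((ptsOf (lines.getD i 0)).map (fun x => cycIdx.getD x 16) = lineCyc.getD i [] ∧
      (ptsOf (lines.getD i 0)).length = 4)) && Nat.beq lineCyc.length lines.length = true := by
  decide +kernel

/-- the condition on a partial choice of cycles -/
def okA (A : List ℕ) (f : List Bool) : Bool :=
  lineCyc.all fun l => A.any fun t =>
    Nat.ble (l.countP fun j => f.getD j false) t && Nat.ble t (l.countP fun j => f.getD j true)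

/-- the choices meeting every line in an allowed number of points -/
def dfs (A : List ℕ) : ℕ → List (List Bool)
  | 0 => [[]]
  | k + 1 => (dfs A k).flatMap fun f => [f ++ [false], f ++ [true]].filter (okA A)

theorem mem_dfs {A : List ℕ} (ch : ℕ → Bool)
    (h : ∀ l ∈ lineCyc, l.countP ch ∈ A) : ∀ k, (List.range k).map ch ∈ dfs A k
  | 0 => by simp [dfs]
  | k + 1 => by
    refine List.mem_flatMap.2 ⟨_, mem_dfs ch h k, List.mem_filter.2 ⟨?_, ?_⟩⟩
    · rw [List.range_succ, List.map_append, List.map_singleton]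
      cases ch k <;> simp
    · set f := (List.range k).map ch ++ [ch k] with hf
      have hf' : (List.range k).map ch ++ [ch k] = (List.range (k + 1)).map ch := by
        rw [List.range_succ, List.map_append, List.map_singleton]
      have hget : ∀ (d : Bool) (j : ℕ),
          ((List.range (k + 1)).map ch).getD j d = if j < k + 1 then ch j else d := by
        intro d j
        split
        · rw [List.getD_eq_getElem _ _ (by simp; omega)]; simp
        · rw [List.getD_eq_default _ _ (by simp; omega)]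
      rw [show (List.range (k + 1)).map ch = f from hf'.symm] at *
      simp only [okA, List.all_eq_true, List.any_eq_true, Bool.and_eq_true, Nat.ble_eq]
      intro l hl
      refine ⟨_, h l hl, List.countP_mono_left fun j _ hj => ?_,
        List.countP_mono_left fun j _ hj => ?_⟩
      · rw [hget] at hj; split at hj <;> simp_all
      · rw [hget]; split <;> simp_all

theorem dfs_ok : ([[1], [2], [3], [0, 4]].all fun A => (dfs A 16).all fun f =>
    solChoice.contains f || f.all id || f.all not) = true := by decide +kernel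

/-- the four hemisystems -/
def sols : List ℕ := [sol0, sol1, sol2, sol3]

theorem sols_ok : ((List.range 4).all fun i => allN 112 fun x =>
    (sols.getD i 0).testBit x == (solChoice.getD i []).getD (cycIdx.getD x 16) false) &&
      Nat.beq solChoice.length 4 = true := by decide +kernel

/-- a subgroup of index 162 through the element of order seven fixes one of the four hemisystems -/
theorem fixes_sol {X : Subgroup (Perm (Fin 112))} (hX : X ≤ R) (hc : Nat.card X = 20160)
    (hg : g0 ∈ X) : ∃ i < 4, X ≤ MulAction.stabilizer (Perm (Fin 112)) (mSet 112 (sols.getD i 0)) := by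
  classical
  set S : Finset (Fin 112) := Finset.univ.filter fun x => x ∈ MulAction.orbit X (0 : Fin 112)
    with hS
  have hScoe : (S : Set (Fin 112)) = MulAction.orbit X (0 : Fin 112) := by ext x; simp [hS]
  have hS56 : S.card = 56 := by rw [← Set.ncard_coe_finset, hScoe, (orbit_large hX hc 0).2]
  have hSmem : ∀ x, x ∈ S ↔ x ∈ MulAction.orbit X (0 : Fin 112) := fun x => by simp [hS]
  have hSinv : ∀ σ ∈ X, σ • S = S := fun σ hσ => Finset.coe_injective (by
    rw [Finset.coe_smul_finset, hScoe]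
    exact MulAction.smul_orbit (⟨σ, hσ⟩ : X) _)
  obtain ⟨z, hz⟩ : ∃ z, z ∈ Sᶜ := Finset.card_pos.1 (by rw [Finset.card_compl, hS56]; decide)
  have hTmem : ∀ x, x ∈ Sᶜ ↔ x ∈ MulAction.orbit X z := by
    have hsub : MulAction.orbit X z ⊆ ((Sᶜ : Finset (Fin 112)) : Set (Fin 112)) := fun x hx => by
      rw [Finset.mem_coe, Finset.mem_compl, hSmem]
      intro h
      rw [Finset.mem_compl, hSmem] at hz
      exact hz (by rw [← MulAction.orbit_eq_iff.2 h, MulAction.orbit_eq_iff.2 hx]; exact MulAction.mem_orbit_self z)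
    have he := Set.eq_of_subset_of_ncard_le hsub (by
      rw [Set.ncard_coe_finset, Finset.card_compl, hS56, (orbit_large hX hc z).2]; decide)
    intro x; rw [he]; rfl
  -- lines meeting an orbit meet it equally
  have hconst : ∀ (U : Finset (Fin 112)) (y : Fin 112), (∀ x, x ∈ U ↔ x ∈ MulAction.orbit X y) →
      (∀ σ ∈ X, σ • U = U) → ∀ L ∈ LineSet, ∀ L' ∈ LineSet, (L ∩ U).Nonempty → (L' ∩ U).Nonempty →
        (L ∩ U).card = (L' ∩ U).card := by
    intro U y hU hUi L hL L' hL' ⟨a, ha⟩ ⟨b, hb⟩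
    rw [Finset.mem_inter, hU] at ha hb
    obtain ⟨⟨g, hg⟩, hgab⟩ : b ∈ MulAction.orbit X a := by
      rw [MulAction.orbit_eq_iff.2 ha.2]; exact hb.2
    have hgb : g a = b := hgab
    obtain ⟨h, hh, -, hhL⟩ := trans_lines_at hX (orbit_large hX hc b).1 (smul_line (hX hg) hL)
      (hgb ▸ Finset.smul_mem_smul_finset (a := g) ha.1) hL' hb.1
    have e : (h * g) • (L ∩ U) = L' ∩ U := by
      rw [Finset.smul_finset_inter, hUi _ (X.mul_mem hh hg), mul_smul, hhL]
    rw [← e, Finset.card_smul_finset]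
  have hfour : ∀ L ∈ LineSet, L.card = 4 := by
    intro L hL
    obtain ⟨l, hl, rfl⟩ := mem_LineSet.1 hL
    obtain ⟨i, hi, rfl⟩ := List.mem_iff_getElem.1 hl
    have h := lineCyc_ok
    simp only [Bool.and_eq_true, List.all_eq_true, decide_eq_true_eq] at h
    have h4 := (h.1 i (List.mem_range.2 hi)).2
    rw [List.getD_eq_getElem _ _ hi] at h4
    rw [← h4]
    unfold ptsOf
    rw [← List.toFinset_card_of_nodup ((List.nodup_range).filter _)]
    refine Finset.card_bij (fun x _ => (x : ℕ)) (fun x hx => ?_) (fun a _ b _ e => Fin.ext e)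
      fun x hx => ?_
    · simp [mem_mSet.1 hx]
    · simp only [List.mem_toFinset, ptsOf, List.mem_filter, List.mem_range] at hx
      exact ⟨⟨x, hx.1⟩, mem_mSet.2 hx.2, rfl⟩
  have hsplit : ∀ L ∈ LineSet, (L ∩ Sᶜ).card + (L ∩ S).card = 4 := fun L hL => by
    rw [add_comm, ← hfour L hL, ← Finset.card_inter_add_card_sdiff L S, Finset.sdiff_eq_inter_compl]
  have hTinv : ∀ σ ∈ X, σ • Sᶜ = Sᶜ := fun σ hσ => by
    rw [Finset.compl_eq_univ_sdiff, Finset.smul_finset_sdiff, Finset.smul_finset_univ, hSinv σ hσ]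
  obtain ⟨A, hA, hAall⟩ : ∃ A ∈ [[1], [2], [3], [0, 4]], ∀ L ∈ LineSet, (L ∩ S).card ∈ A := by
    by_cases hmix : ∃ L ∈ LineSet, (L ∩ S).card ≠ 0 ∧ (L ∩ S).card ≠ 4
    · obtain ⟨L, hL, h0, h4⟩ := hmix
      have := hsplit L hL
      refine ⟨[(L ∩ S).card], ?_, fun L' hL' => List.mem_singleton.2 ?_⟩
      · rcases (show (L ∩ S).card = 1 ∨ (L ∩ S).card = 2 ∨ (L ∩ S).card = 3 by omega) with e | e | e <;>
          simp [e]
      · have := hsplit L' hL'
        have e1 : (L' ∩ S).card ≠ 0 → (L ∩ S).card = (L' ∩ S).card := fun h =>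
          hconst S 0 hSmem hSinv L hL L' hL' (Finset.card_ne_zero.1 h0) (Finset.card_ne_zero.1 h)
        have e2 : (L' ∩ Sᶜ).card ≠ 0 → (L ∩ Sᶜ).card = (L' ∩ Sᶜ).card := fun h =>
          hconst Sᶜ z hTmem hTinv L hL L' hL' (Finset.card_ne_zero.1 (by omega))
            (Finset.card_ne_zero.1 h)
        omega
    · push Not at hmix
      exact ⟨[0, 4], by simp, fun L hL => by
        have := hsplit L hL
        simp only [List.mem_cons, List.not_mem_nil, or_false]
        by_cases h : (L ∩ S).card = 0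
        · exact Or.inl h
        · exact Or.inr (hmix L hL h)⟩
  let ch : ℕ → Bool := fun j => decide ((Fin.ofNat 112 (cycHead.getD j 0)) ∈ S)
  have hx : ∀ x : Fin 112, x ∈ S ↔ ch (cycIdx.getD x 16) = true := by
    intro x
    have h := allN_iff.1 cyc_ok x x.2
    simp only [Bool.and_eq_true, List.any_eq_true, Nat.beq_eq] at h
    obtain ⟨-, k, -, hk⟩ := h
    set d := cycHead.getD (cycIdx.getD x 16) 0 with hd
    have hdlt : d < 112 := by
      rw [hd]
      by_cases hj : cycIdx.getD x 16 < cycHead.length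
      · rw [List.getD_eq_getElem _ _ hj]
        exact Nat.le_of_ble_eq_true (List.all_eq_true.1 cycHead_lt _ (List.getElem_mem hj))
      · rw [List.getD_eq_default _ _ (by omega)]; norm_num
    have e : (g0 ^ k) (Fin.ofNat 112 d) = x := Fin.ext (by
      rw [inM_cG.rep.itQ, show ((Fin.ofNat 112 d : Fin 112) : ℕ) = d from Nat.mod_eq_of_lt hdlt, hk])
    simp only [ch, decide_eq_true_eq, ← hd]
    conv_lhs => rw [← e, ← Perm.smul_def, ← hSinv _ (X.pow_mem hg k)]
    exact Finset.smul_mem_smul_finset_iff _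
  have hch : ∀ l ∈ lineCyc, l.countP ch ∈ A := by
    intro l hl
    obtain ⟨i, hi, rfl⟩ := List.mem_iff_getElem.1 hl
    have h := lineCyc_ok
    simp only [Bool.and_eq_true, List.all_eq_true, decide_eq_true_eq, Nat.beq_eq] at h
    have hi' : i < lines.length := h.2 ▸ hi
    have h1 := (h.1 i (List.mem_range.2 hi')).1
    rw [List.getD_eq_getElem _ _ hi', List.getD_eq_getElem _ _ hi] at h1
    rw [← h1, List.countP_map, List.countP_eq_length_filter]
    have hL : mSet 112 lines[i] ∈ LineSet := mem_LineSet.2 ⟨_, List.getElem_mem _, rfl⟩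
    convert hAall _ hL using 1
    unfold ptsOf
    rw [← List.toFinset_card_of_nodup ((List.nodup_range.filter _).filter _)]
    refine (Finset.card_bij (s := mSet 112 lines[i] ∩ S) (fun x _ => (x : ℕ)) (fun x hxm => ?_)
      (fun a _ b _ e => Fin.ext e) fun y hy => ?_).symm
    · rw [Finset.mem_inter] at hxm
      simp only [List.mem_toFinset, List.mem_filter, List.mem_range, Function.comp]
      exact ⟨⟨x.2, mem_mSet.1 hxm.1⟩, (hx x).1 hxm.2⟩
    · simp only [List.mem_toFinset, ptsOf, List.mem_filter, List.mem_range, Function.comp] at hy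
      exact ⟨⟨y, hy.1.1⟩, Finset.mem_inter.2 ⟨mem_mSet.2 hy.1.2, (hx _).2 hy.2⟩, rfl⟩
  have hd := mem_dfs ch hch 16
  have hok := List.all_eq_true.1 (List.all_eq_true.1 dfs_ok A hA) _ hd
  have hlt : ∀ x : Fin 112, cycIdx.getD x 16 < 16 := fun x => by
    have h := allN_iff.1 cyc_ok x x.2
    rw [Bool.and_eq_true] at h
    exact Nat.le_of_ble_eq_true h.1
  simp only [Bool.or_eq_true, List.contains_iff_mem, List.all_eq_true, List.mem_map, List.mem_range,
    forall_exists_index, and_imp, forall_apply_eq_imp_iff₂, id, Bool.not_eq_true'] at hok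
  rcases hok with (hok | hok) | hok
  · obtain ⟨i, hi, he⟩ := List.mem_iff_getElem.1 hok
    have h := sols_ok
    simp only [Bool.and_eq_true, List.all_eq_true, List.mem_range, allN_iff, beq_iff_eq, Nat.beq_eq] at h
    have hi4 : i < 4 := by
      have h4 := h.2
      simp only [decide_eq_true_eq] at h4
      omega
    refine ⟨i, hi4, fun σ hσ => ?_⟩
    have hSe : mSet 112 (sols.getD i 0) = S := by
      ext x
      rw [mem_mSet, h.1 i hi4 x x.2, hx, List.getD_eq_getElem _ _ hi, he,
        List.getD_eq_getElem _ _ (by simpa using hlt x)]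
      simp
    show σ • mSet 112 (sols.getD i 0) = _
    rw [hSe, hSinv σ hσ]
  · exfalso
    have : S = Finset.univ := Finset.eq_univ_of_forall fun x => (hx x).2 (hok _ (hlt x))
    rw [this] at hS56
    simp at hS56
  · exfalso
    have : S = ∅ := Finset.eq_empty_of_forall_notMem fun x hxS => by
      have := hok _ (hlt x)
      rw [(hx x).1 hxS] at this
      exact Bool.noConfusion this
    rw [this] at hS56
    simp at hS56

end CfsgLib.Spor.McLRank3
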