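import Cfsg.Agent.Lib.Spor.McLRank3.Core

/-!
A transitive group of degree 275 with point stabiliser `PSU₄(3)` and orbits of lengths 1, 112, 162
is McLaughlin's group.
-/

set_option autoImplicit false

open scoped Pointwise

namespace CfsgLib.Spor.McLRank3

open Equiv

variable {Ω : Type*} [Fintype Ω] [DecidableEq Ω] {G : Subgroup (Perm Ω)} {a : Ω}

/-- the image of the stabiliser of `b` under an isomorphism with the group of degree 112 -/
def stabImg (ι : MulAction.stabilizer G a ≃* R) (b : Ω) : Subgroup (Perm (Fin 112)) :=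
  ((MulAction.stabilizer (MulAction.stabilizer G a) b).map ι.toMonoidHom).map R.subtype

theorem stabImg_le (ι : MulAction.stabilizer G a ≃* R) (b : Ω) : stabImg ι b ≤ R :=
  Subgroup.map_subtype_le _

theorem mem_stabImg_iff (ι : MulAction.stabilizer G a ≃* R) (b : Ω)
    (g : MulAction.stabilizer G a) :
    (ι g : Perm (Fin 112)) ∈ stabImg ι b ↔ g • b = b := by
  constructor
  · rintro ⟨r, ⟨h, hh, rfl⟩, e⟩
    have e' : h = g := ι.injective (Subtype.ext e)
    rw [← e']
    exact hh
  · exact fun hg => ⟨ι g, ⟨g, hg, rfl⟩, rfl⟩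

omit [DecidableEq Ω] in
theorem card_stabImg (ι : MulAction.stabilizer G a ≃* R) (b : Ω) :
    Nat.card (stabImg ι b) * (MulAction.orbit (MulAction.stabilizer G a) b).ncard = 3265920 := by
  rw [stabImg, Subgroup.card_map_of_injective R.subtype_injective,
    Subgroup.card_map_of_injective ι.injective, ← MulAction.index_stabilizer,
    Subgroup.card_mul_index, Nat.card_congr ι.toEquiv, natCard_R]

theorem stabImg_smul (ι : MulAction.stabilizer G a ≃* R) (b : Ω) (g : MulAction.stabilizer G a) :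
    stabImg ι (g • b) = (stabImg ι b).map (MulAut.conj (ι g : Perm (Fin 112))).toMonoidHom := by
  rw [stabImg, stabImg, MulAction.stabilizer_smul_eq_stabilizer_map_conj,
    Subgroup.map_map, Subgroup.map_map, Subgroup.map_map, Subgroup.map_map]
  congr 1
  exact MonoidHom.ext fun x => by simp

/-- the equivariant bijection -/
theorem exists_equiv (ι : MulAction.stabilizer G a ≃* R) {b c : Ω}
    (hb : (MulAction.orbit (MulAction.stabilizer G a) b).ncard = 112)
    (hc : (MulAction.orbit (MulAction.stabilizer G a) c).ncard = 162)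
    (hsb : stabImg ι b = R0) (hsc : stabImg ι c = Rq) (hΩ : Fintype.card Ω = 275) :
    ∃ f : Fin 275 ≃ Ω, f 0 = a ∧ ∀ (k : K) (x : Fin 275),
      f ((k : Perm (Fin 275)) x) = ι.symm (eK k) • f x := by
  classical
  have ha : ∀ g : (MulAction.stabilizer G a), g • a = a := fun g => g.2
  have hbstab : ∀ k : K, (k : Perm (Fin 275)) ptp = ptp ↔ ι.symm (eK k) • b = b := fun k => by
    rw [← mem_R0_iff, ← mem_stabImg_iff ι b, hsb, MulEquiv.apply_symm_apply]
  have hcstab : ∀ k : K, (k : Perm (Fin 275)) ptq = ptq ↔ ι.symm (eK k) • c = c := fun k => by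
    rw [← mem_Rq_iff, ← mem_stabImg_iff ι c, hsc, MulEquiv.apply_symm_apply]
  have hwell : ∀ {z : Fin 275} {w : Ω}, (∀ k : K, (k : Perm (Fin 275)) z = z ↔ ι.symm (eK k) • w = w) →
      ∀ k l : K, ((k : Perm (Fin 275)) z = (l : Perm (Fin 275)) z ↔
        ι.symm (eK k) • w = ι.symm (eK l) • w) := fun {z w} hz k l => by
    have h := hz (l⁻¹ * k)
    rw [map_mul, map_inv, map_mul, map_inv, mul_smul, inv_smul_eq_iff] at h
    rw [← h]
    simp only [Subgroup.coe_mul, Subgroup.coe_inv, Perm.mul_apply, Perm.inv_eq_iff_eq]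
  let F : Fin 275 → Ω := fun x =>
    if hx : x ∈ Pset then ι.symm (eK ⟨_, (K_trans_P ptp_mem hx).choose_spec.1⟩) • b
    else if hx' : x = 0 then a
    else ι.symm (eK ⟨_, (K_trans_Q ptq_mem (mem_Qset_iff.2 ⟨hx', hx⟩)).choose_spec.1⟩) • c
  have hF0 : F 0 = a := by simp [F, zero_notMem_Pset]
  have hFb : ∀ k : K, F ((k : Perm (Fin 275)) ptp) = ι.symm (eK k) • b := fun k => by
    have hx : (k : Perm (Fin 275)) ptp ∈ Pset := K_Pset k.2 ptp_mem
    simp only [F, dif_pos hx]
    exact (hwell hbstab _ _).1 (K_trans_P ptp_mem hx).choose_spec.2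
  have hFc : ∀ k : K, F ((k : Perm (Fin 275)) ptq) = ι.symm (eK k) • c := fun k => by
    have hx := mem_Qset_iff.1 (K_Qset k.2 ptq_mem)
    simp only [F, dif_neg hx.2, dif_neg hx.1]
    exact (hwell hcstab _ _).1 (K_trans_Q ptq_mem (mem_Qset_iff.2 hx)).choose_spec.2
  have hsplit : ∀ x : Fin 275, x = 0 ∨ (∃ k : K, (k : Perm (Fin 275)) ptp = x) ∨
      ∃ k : K, (k : Perm (Fin 275)) ptq = x := fun x => by
    by_cases h0 : x = 0
    · exact Or.inl h0
    by_cases hP : x ∈ Pset
    · obtain ⟨k, hk, e⟩ := K_trans_P ptp_mem hP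
      exact Or.inr (Or.inl ⟨⟨k, hk⟩, e⟩)
    · obtain ⟨k, hk, e⟩ := K_trans_Q ptq_mem (mem_Qset_iff.2 ⟨h0, hP⟩)
      exact Or.inr (Or.inr ⟨⟨k, hk⟩, e⟩)
  have horb_a : MulAction.orbit (MulAction.stabilizer G a) a = {a} := by
    ext w
    constructor
    · rintro ⟨g, hg⟩
      exact hg.symm.trans (ha g)
    · rintro rfl
      exact MulAction.mem_orbit_self _
  have hne : ∀ g h : (MulAction.stabilizer G a), g • b ≠ a ∧ g • c ≠ a ∧ g • b ≠ h • c := by
    intro g h
    have hne1 : ∀ {w : Ω}, (MulAction.orbit (MulAction.stabilizer G a) w).ncard ≠ 1 → g • w ≠ a :=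
      fun {w} hw e => hw (by rw [← MulAction.orbit_smul g w, e, horb_a, Set.ncard_singleton])
    refine ⟨hne1 (by omega), hne1 (by omega), fun e => ?_⟩
    have : MulAction.orbit (MulAction.stabilizer G a) b = MulAction.orbit (MulAction.stabilizer G a) c := by
      rw [← MulAction.orbit_smul g b, e, MulAction.orbit_smul]
    rw [this, hc] at hb
    omega
  have hinj : Function.Injective F := by
    intro x y e
    rcases hsplit x with rfl | ⟨k, rfl⟩ | ⟨k, rfl⟩ <;> rcases hsplit y with rfl | ⟨l, rfl⟩ | ⟨l, rfl⟩ <;>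
      simp only [hF0, hFb, hFc] at e ⊢
    · exact absurd e.symm (hne _ 1).1
    · exact absurd e.symm (hne _ 1).2.1
    · exact absurd e (hne _ 1).1
    · exact (hwell hbstab k l).2 e
    · exact absurd e (hne _ _).2.2
    · exact absurd e (hne _ 1).2.1
    · exact absurd e.symm (hne _ _).2.2
    · exact (hwell hcstab k l).2 e
  refine ⟨Equiv.ofBijective F ((Fintype.bijective_iff_injective_and_card F).2
    ⟨hinj, by rw [Fintype.card_fin, hΩ]⟩), hF0, fun k x => ?_⟩
  show F _ = _ • F x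
  rcases hsplit x with rfl | ⟨l, rfl⟩ | ⟨l, rfl⟩
  · rw [K_apply_zero k.2, hF0]
    exact (ha _).symm
  · rw [show (k : Perm (Fin 275)) ((l : Perm (Fin 275)) ptp) = ((k * l : K) : Perm (Fin 275)) ptp
      from rfl, hFb, hFb, map_mul, map_mul, mul_smul]
  · rw [show (k : Perm (Fin 275)) ((l : Perm (Fin 275)) ptq) = ((k * l : K) : Perm (Fin 275)) ptq
      from rfl, hFc, hFc, map_mul, map_mul, mul_smul]

/-- an automorphism of the group of degree 112 from a normalising permutation -/
noncomputable def conjR {φ : Perm (Fin 112)}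
    (hφ : φ ∈ Subgroup.normalizer (R : Set (Perm (Fin 112)))) : R ≃* R where
  toFun x := ⟨φ⁻¹ * x * φ, ((Subgroup.mem_normalizer_iff''.1 hφ) x).1 x.2⟩
  invFun x := ⟨φ * x * φ⁻¹, ((Subgroup.mem_normalizer_iff.1 hφ) x).1 x.2⟩
  left_inv x := Subtype.ext (by simp [mul_assoc])
  right_inv x := Subtype.ext (by simp [mul_assoc])
  map_mul' x y := Subtype.ext (by simp [mul_assoc])

theorem stabImg_conjR {φ : Perm (Fin 112)}
    (hφ : φ ∈ Subgroup.normalizer (R : Set (Perm (Fin 112))))
    (ι : MulAction.stabilizer G a ≃* R) (b : Ω) :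
    stabImg (ι.trans (conjR hφ)) b = (stabImg ι b).map (MulAut.conj φ⁻¹).toMonoidHom := by
  rw [stabImg, stabImg, Subgroup.map_map, Subgroup.map_map, Subgroup.map_map]
  congr 1

/-- the recognition theorem -/
theorem isoMcL_of_rank_three (hΩ : Fintype.card Ω = 275) [MulAction.IsPretransitive G Ω]
    {F : Type} [Field F] [Fintype F] (hF : Fintype.card F = 9)
    (e : MulAction.stabilizer G a ≃* Cfsg.PSU 4 F 3) {b c : Ω}
    (hb : (MulAction.orbit (MulAction.stabilizer G a) b).ncard = 112)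
    (hc : (MulAction.orbit (MulAction.stabilizer G a) c).ncard = 162) :
    Cfsg.Spor.IsoMcL G := by
  obtain ⟨e'⟩ := psu_equiv_R hF
  obtain ⟨φ, hφn, hφ⟩ := exists_phi
  have hcardc : ∀ ι : MulAction.stabilizer G a ≃* R, Nat.card (stabImg ι c) = 20160 := fun ι => by
    have := card_stabImg ι c
    rw [hc] at this
    omega
  -- an isomorphism carrying the stabiliser in the long orbit to the stabiliser of the hemisystem
  obtain ⟨ι, g, hg⟩ : ∃ (ι : MulAction.stabilizer G a ≃* R) (g : MulAction.stabilizer G a),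
      stabImg ι (g • c) = Rq := by
    obtain ⟨h, hh, hq | hq⟩ :=
      index_large (stabImg_le (e.trans e') c) (hcardc (e.trans e')) hφn hφ
    · exact ⟨e.trans e', (e.trans e').symm ⟨h, hh⟩, by
        rw [stabImg_smul, MulEquiv.apply_symm_apply, hq]⟩
    · refine ⟨(e.trans e').trans (conjR hφn), (e.trans e').symm ⟨h, hh⟩, ?_⟩
      rw [stabImg_conjR, stabImg_smul, MulEquiv.apply_symm_apply, hq, Subgroup.map_map]
      convert Subgroup.map_id Rq using 2
      exact MonoidHom.ext fun x => by simp [mul_assoc]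
  have hcardb : Nat.card (stabImg ι b) = 29160 := by
    have := card_stabImg ι b
    rw [hb] at this
    omega
  obtain ⟨y, hy⟩ := index_small (stabImg_le ι b) hcardb
  obtain ⟨h, hh, hy0⟩ := R_trans y 0
  have hb' : stabImg ι (ι.symm ⟨h, hh⟩ • b) = R0 := by
    rw [stabImg_smul, MulEquiv.apply_symm_apply, hy]
    refine Subgroup.eq_of_le_of_card_ge ?_ ?_
    · exact map_inf_stab le_rfl hh hy0
    · rw [Subgroup.card_map_of_injective (MulAut.conj h).injective, card_stab, card_stab]
  obtain ⟨f, hf0, hf⟩ := exists_equiv ι (b := ι.symm ⟨h, hh⟩ • b) (c := g • c)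
    (by rw [MulAction.orbit_smul]; exact hb) (by rw [MulAction.orbit_smul]; exact hc) hb' hg hΩ
  set G' : Subgroup (Perm (Fin 275)) := G.map (f.symm.permCongrHom).toMonoidHom with hG'
  have happ : ∀ (σ : Perm Ω) (x : Fin 275),
      (f.symm.permCongrHom.toMonoidHom σ) x = f.symm (σ (f x)) := fun σ x => by
    show f.symm.permCongr σ x = _
    simp [Equiv.permCongr_apply]
  have hext : IsExt G' := by
    refine ⟨fun i => ?_, le_antisymm ?_ (le_inf (fun k hk => ?_) K_fix_zero)⟩
    · obtain ⟨σ, hσ⟩ := MulAction.exists_smul_eq G a (f i)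
      refine ⟨_, Subgroup.mem_map_of_mem _ σ.2, ?_⟩
      rw [happ, hf0, show (σ : Perm Ω) a = f i from hσ, Equiv.symm_apply_apply]
    · rintro _ ⟨⟨σ, hσ, rfl⟩, hfix⟩
      have e1 : (f.symm.permCongrHom.toMonoidHom σ) 0 = 0 := hfix
      rw [happ, hf0, Equiv.symm_apply_eq, hf0] at e1
      set s : MulAction.stabilizer G a := ⟨⟨σ, hσ⟩, e1⟩
      have e2 : f.symm.permCongrHom.toMonoidHom σ = (eK.symm (ι s) : Perm (Fin 275)) := by
        refine Equiv.ext fun x => ?_
        rw [happ, Equiv.symm_apply_eq, hf, MulEquiv.apply_symm_apply, MulEquiv.symm_apply_apply]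
        rfl
      rw [e2]
      exact (eK.symm (ι s)).2
    · refine ⟨((ι.symm (eK ⟨k, hk⟩) : G) : Perm Ω), (ι.symm (eK ⟨k, hk⟩) : G).2,
        Equiv.ext fun x => ?_⟩
      rw [happ, Equiv.symm_apply_eq, hf ⟨k, hk⟩ x]
      rfl
  obtain ⟨em⟩ := equiv_mcl hext
  exact ⟨(G.equivMapOfInjective _ f.symm.permCongrHom.injective).trans em⟩

end CfsgLib.Spor.McLRank3
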